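import Mathlib

/-!
# Brauer–Suzuki–Wall: the arithmetic of the degree
-/

set_option autoImplicit false
set_option linter.all false

namespace Cfsg.Agent.BSW

/-- The degree `X = k j + 1` is `2k + 1` or `1 - 2k`. -/
theorem degree_arith (k I X M' m : ℤ) (hk2 : 2 ∣ k) (hk : 4 ≤ k)
    (hI : I = 2 * k * M' + 1 + k + k * (k - 2)) (hIpos : 0 < I)
    (hX : X + k - 1 = k * m) (hX0 : X ≠ 0) (hX1 : X + 1 ≠ 0)
    (h : I * (X - 1) ^ 2 = 2 * k ^ 2 * X * (X + 1)) :
    (X = 2 * k + 1 ∧ I = (2 * k + 1) * (k + 1) ∧ 2 * k * M' = k * (k + 4)) ∨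
      (X = 1 - 2 * k ∧ I = (2 * k - 1) * (k - 1) ∧ 2 * k * M' = k * (k - 2)) := by
  obtain ⟨j, rfl⟩ : ∃ j, X = k * j + 1 := ⟨m - 1, by linarith⟩
  have h1 : I * j ^ 2 = 2 * (k * j + 1) * (k * j + 2) :=
    mul_left_cancel₀ (pow_ne_zero 2 (show k ≠ 0 by omega)) (by linear_combination h)
  obtain ⟨z, hz⟩ : ∃ z, z = 2 * M' - k - 1 := ⟨_, rfl⟩
  have h2 : j ^ 2 * (1 + k * z) = 6 * k * j + 4 := by
    rw [hI] at h1; rw [hz]; linear_combination h1
  have hj4 : j ∣ 4 := ⟨j * (1 + k * z) - 6 * k, by linear_combination -h2⟩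
  have hj1 : j.natAbs ∣ 4 := by
    have := Int.natAbs_dvd_natAbs.mpr hj4
    simpa using this
  have hj0 : j ≠ 0 := by rintro rfl; simp at hj4
  obtain ⟨k', rfl⟩ := hk2
  have hle : j.natAbs ≤ 4 := Nat.le_of_dvd (by norm_num) hj1
  have hub : j ≤ 4 := by omega
  have hlb : -4 ≤ j := by omega
  interval_cases j
  · exfalso
    have : 16 * (1 + 2 * (k' * z)) = -(48 * k') + 4 := by linear_combination h2
    omega
  · norm_num at hj1
  · -- `j = -2`
    have h3 : (2 * k') * (4 * (z + 3)) = 0 := by linear_combination h2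
    have hz3 : z = -3 := by
      rcases mul_eq_zero.mp h3 with e | e <;> omega
    refine Or.inr ⟨by ring, ?_, ?_⟩
    · linarith [show I * 4 = (2 * (2 * k') - 1) * (2 * k' - 1) * 4 by linear_combination h1]
    · have : 2 * M' = 2 * k' - 2 := by omega
      linear_combination (2 * k') * this
  · exfalso
    have : 1 + 2 * (k' * z) = -(12 * k') + 4 := by linear_combination h2
    omega
  · exfalso; exact hj0 rfl
  · exfalso
    have : 1 + 2 * (k' * z) = 12 * k' + 4 := by linear_combination h2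
    omega
  · -- `j = 2`
    have h3 : (2 * k') * (4 * (z - 3)) = 0 := by linear_combination h2
    have hz3 : z = 3 := by
      rcases mul_eq_zero.mp h3 with e | e <;> omega
    refine Or.inl ⟨by ring, ?_, ?_⟩
    · linarith [show I * 4 = (2 * (2 * k') + 1) * (2 * k' + 1) * 4 by linear_combination h1]
    · have : 2 * M' = 2 * k' + 4 := by omega
      linear_combination (2 * k') * this
  · norm_num at hj1
  · exfalso
    have : 16 * (1 + 2 * (k' * z)) = 48 * k' + 4 := by linear_combination h2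
    omega

end Cfsg.Agent.BSW
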