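import Mathlib

/-!
# Brauer–Suzuki–Wall: the local setup around a dihedral-like involution centralizer
-/

set_option autoImplicit false
set_option linter.all false

namespace Cfsg.Agent.BSW

variable {G : Type*} [Group G] [Finite G]

/-- The hypotheses of the abstract Brauer–Suzuki–Wall theorem. -/
structure Hyp (t : G) (K : Subgroup G) (s : G) : Prop where
  ht : orderOf t = 2
  comm : ∀ a ∈ K, ∀ b ∈ K, a * b = b * a
  htK : t ∈ K
  hs : orderOf s = 2
  hst : s * t = t * s
  hsK : s ∉ K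
  hH : K ⊔ Subgroup.zpowers s = Subgroup.centralizer ({t} : Set G)
  hCK : ∀ x ∈ K, x * s = s * x → x = 1 ∨ x = t
  hinv : ∀ x ∈ K, s * x * s⁻¹ = x⁻¹
  hTI : ∀ g x : G, x ∈ K → x ≠ 1 → g * x * g⁻¹ ∈ K → g * t = t * g
  hconj : ∀ x y : G, orderOf x = 2 → orderOf y = 2 → IsConj x y

/-- `g` is conjugate to an element of `K`. -/
def InK (K : Subgroup G) (g : G) : Prop := ∃ h : G, h * g * h⁻¹ ∈ K

theorem inK_of_mem {K : Subgroup G} {g : G} (h : g ∈ K) : InK K g := ⟨1, by simpa using h⟩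

theorem inK_one (K : Subgroup G) : InK K (1 : G) := inK_of_mem K.one_mem

theorem inK_conj {K : Subgroup G} {g : G} (a : G) (h : InK K g) : InK K (a * g * a⁻¹) := by
  obtain ⟨b, hb⟩ := h
  exact ⟨b * a⁻¹, by rwa [show b * a⁻¹ * (a * g * a⁻¹) * (b * a⁻¹)⁻¹ = b * g * b⁻¹ by group]⟩

theorem inK_conj_iff {K : Subgroup G} {g : G} (a : G) : InK K (a * g * a⁻¹) ↔ InK K g := by
  refine ⟨fun h => ?_, inK_conj a⟩
  have := inK_conj a⁻¹ h
  rwa [show a⁻¹ * (a * g * a⁻¹) * a⁻¹⁻¹ = g by group] at this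

theorem mul_self_two {x : G} (h : orderOf x = 2) : x * x = 1 := by
  rw [← pow_two, ← h]; exact pow_orderOf_eq_one x

theorem inv_two {x : G} (h : orderOf x = 2) : x⁻¹ = x :=
  inv_eq_of_mul_eq_one_right (mul_self_two h)

theorem orderOf_two {x : G} (h : x * x = 1) (h1 : x ≠ 1) : orderOf x = 2 :=
  orderOf_eq_prime (by rw [pow_two, h]) h1

theorem ne_one_two {x : G} (h : orderOf x = 2) : x ≠ 1 := fun e => by simp [e] at h

theorem conj_ne' {a x : G} (h : x ≠ 1) : a * x * a⁻¹ ≠ 1 := fun e => h (conj_eq_one_iff.mp e)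

theorem orderOf_conj (a x : G) : orderOf (a * x * a⁻¹) = orderOf x := by
  rw [← MulAut.conj_apply, MulEquiv.orderOf_eq]

variable {t : G} {K : Subgroup G} {s : G}

namespace Hyp

variable (hy : Hyp t K s)
include hy

theorem tne : t ≠ 1 := ne_one_two hy.ht

theorem K_comm_t {x : G} (hx : x ∈ K) : x * t = t * x := hy.comm x hx t hy.htK

theorem s_conj {x : G} (hx : x ∈ K) : s * x = x⁻¹ * s :=
  mul_inv_eq_iff_eq_mul.mp (hy.hinv x hx)

theorem mem_or {g : G} (hg : g * t = t * g) : g ∈ K ∨ g * s ∈ K := by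
  have hs2 := mul_self_two hy.hs
  let S : Subgroup G :=
    { carrier := {h | h ∈ K ∨ h * s ∈ K}
      one_mem' := Or.inl K.one_mem
      mul_mem' := by
        rintro a b (ha | ha) (hb | hb)
        · exact Or.inl (K.mul_mem ha hb)
        · exact Or.inr (by rw [mul_assoc]; exact K.mul_mem ha hb)
        · refine Or.inr ?_
          have e : a * b * s = (a * s) * (b⁻¹) := by
            have h2 := hy.s_conj (K.inv_mem hb)
            rw [inv_inv] at h2
            rw [mul_assoc a b s, ← h2, ← mul_assoc]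
          rw [e]; exact K.mul_mem ha (K.inv_mem hb)
        · refine Or.inl ?_
          have e : a * b = (a * s) * ((b * s)⁻¹) := by
            have h1 := hy.hinv (b * s) hb
            rw [← h1, inv_two hy.hs]
            simp only [mul_assoc, hs2, mul_one]
            rw [← mul_assoc s s, hs2, one_mul]
          rw [e]; exact K.mul_mem ha (K.inv_mem hb)
      inv_mem' := by
        rintro a (ha | ha)
        · exact Or.inl (K.inv_mem ha)
        · refine Or.inr ?_
          have h1 := hy.hinv (a * s)⁻¹ (K.inv_mem ha)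
          rw [inv_inv] at h1
          have e : a⁻¹ * s = a * s := by
            rw [← h1, inv_two hy.hs, mul_inv_rev, inv_two hy.hs]
            simp only [← mul_assoc, hs2, one_mul]
          rwa [e] }
  have hle : K ⊔ Subgroup.zpowers s ≤ S := by
    refine sup_le (fun x hx => Or.inl hx) (Subgroup.zpowers_le.mpr (Or.inr ?_))
    rw [hs2]; exact K.one_mem
  exact hle (hy.hH ▸ Subgroup.mem_centralizer_singleton_iff.mpr hg)

theorem conj_inv {g x : G} (hg : g * t = t * g) (hgK : g ∉ K) (hx : x ∈ K) :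
    g * x * g⁻¹ = x⁻¹ := by
  have h := (hy.mem_or hg).resolve_left hgK
  have e : g * x * g⁻¹ = (g * s) * (s * x * s⁻¹) * (g * s)⁻¹ := by
    rw [inv_two hy.hs, mul_inv_rev, inv_two hy.hs]
    have hs2 := mul_self_two hy.hs
    simp only [mul_assoc]
    rw [← mul_assoc s s, hs2, one_mul, ← mul_assoc s s, hs2, one_mul]
  rw [e, hy.hinv x hx, hy.comm _ h _ (K.inv_mem hx), mul_inv_cancel_right]

theorem conj_mem {g x : G} (hg : g * t = t * g) (hx : x ∈ K) :
    g * x * g⁻¹ = x ∨ g * x * g⁻¹ = x⁻¹ := by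
  by_cases h : g ∈ K
  · exact Or.inl (by rw [hy.comm g h x hx, mul_inv_cancel_right])
  · exact Or.inr (hy.conj_inv hg h hx)

theorem invol_of_not_mem {g : G} (hg : g * t = t * g) (hgK : g ∉ K) : orderOf g = 2 := by
  refine orderOf_two ?_ fun e => hgK (e ▸ K.one_mem)
  have h := (hy.mem_or hg).resolve_left hgK
  have h1 := hy.hinv (g * s) h
  rw [inv_two hy.hs, mul_inv_rev, inv_two hy.hs] at h1
  simp only [mul_assoc, mul_self_two hy.hs, mul_one] at h1
  have : g = g⁻¹ := mul_left_cancel h1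
  calc g * g = g * g⁻¹ := by rw [← this]
    _ = 1 := mul_inv_cancel g

theorem sq_eq_one {x : G} (hx : x ∈ K) (h : x * x = 1) : x = 1 ∨ x = t := by
  refine hy.hCK x hx ?_
  rw [hy.s_conj hx, inv_eq_of_mul_eq_one_right h]

theorem sq_ne {x : G} (hx : x ∈ K) (h1 : x ≠ 1) (ht' : x ≠ t) : x * x ≠ 1 :=
  fun h => (hy.sq_eq_one hx h).elim h1 ht'

theorem eq_t_of_invol {x : G} (hx : x ∈ K) (h : orderOf x = 2) : x = t :=
  (hy.sq_eq_one hx (mul_self_two h)).resolve_left (ne_one_two h)

theorem cent {g x : G} (hx : x ∈ K) (h1 : x ≠ 1) (h : g * x = x * g) : g * t = t * g :=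
  hy.hTI g x hx h1 (by rwa [h, mul_inv_cancel_right])

theorem cent_mem {g x : G} (hx : x ∈ K) (h1 : x ≠ 1) (ht' : x ≠ t) (h : g * x = x * g) :
    g ∈ K := by
  by_contra hg
  have := hy.conj_inv (hy.cent hx h1 h) hg hx
  rw [h, mul_inv_cancel_right] at this
  exact hy.sq_ne hx h1 ht' (by nth_rw 1 [this]; exact inv_mul_cancel x)

theorem normalizer_eq {X : Subgroup G} (hX : X ≤ K) (hne : X ≠ ⊥) :
    Subgroup.normalizer (X : Set G) = Subgroup.centralizer ({t} : Set G) := by
  ext g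
  rw [Subgroup.mem_centralizer_singleton_iff, Subgroup.mem_normalizer_iff]
  constructor
  · intro h
    obtain ⟨x, hx, hx1⟩ := (Subgroup.ne_bot_iff_exists_ne_one.mp hne |> fun ⟨⟨a, ha⟩, hne⟩ =>
      (⟨a, ha, fun e => hne (Subtype.ext e)⟩ : ∃ a ∈ X, a ≠ 1))
    exact hy.hTI g x (hX hx) hx1 (hX ((h x).mp hx))
  · intro hg x
    have key : ∀ {a : G}, a * t = t * a → ∀ {y : G}, y ∈ X → a * y * a⁻¹ ∈ X := by
      intro a ha y hyX
      rcases hy.conj_mem ha (hX hyX) with e | e <;> rw [e]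
      exacts [hyX, X.inv_mem hyX]
    refine ⟨fun hx => key hg hx, fun hx => ?_⟩
    have hg' : g⁻¹ * t = t * g⁻¹ := by
      rw [inv_mul_eq_iff_eq_mul, ← mul_assoc, hg, mul_inv_cancel_right]
    have := key hg' hx
    rwa [show g⁻¹ * (g * x * g⁻¹) * g⁻¹⁻¹ = x by group] at this

theorem s_comm : s * t = t * s := hy.hst

theorem mul_s_not_mem {x : G} (hx : x ∈ K) : x * s ∉ K := fun h =>
  hy.hsK ((K.mul_mem_cancel_left hx).mp h)

theorem mul_s_comm {x : G} (hx : x ∈ K) : x * s * t = t * (x * s) := by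
  rw [mul_assoc, hy.hst, ← mul_assoc, hy.K_comm_t hx, mul_assoc]

/-- The involutions commuting with `t` other than `t`. -/
theorem card_outer : Nat.card {u : G // u * t = t * u ∧ u ∉ K} = Nat.card K := by
  refine (Nat.card_congr (Equiv.ofBijective
    (fun x : K => (⟨(x : G) * s, hy.mul_s_comm x.2, hy.mul_s_not_mem x.2⟩ :
      {u : G // u * t = t * u ∧ u ∉ K})) ⟨?_, ?_⟩)).symm
  · intro a b h
    exact Subtype.ext (mul_right_cancel (congrArg Subtype.val h))
  · rintro ⟨u, hu, huK⟩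
    refine ⟨⟨u * s, (hy.mem_or hu).resolve_left huK⟩, Subtype.ext ?_⟩
    simp [mul_assoc, mul_self_two hy.hs]

theorem card_cent : Nat.card (Subgroup.centralizer ({t} : Set G)) = 2 * Nat.card K := by
  classical
  have e : (Subgroup.centralizer ({t} : Set G)) ≃
      (K ⊕ {u : G // u * t = t * u ∧ u ∉ K}) :=
    { toFun := fun g => if h : (g : G) ∈ K then Sum.inl ⟨g, h⟩
        else Sum.inr ⟨g, Subgroup.mem_centralizer_singleton_iff.mp g.2, h⟩
      invFun := fun z => z.elim
        (fun x : K => (⟨(x : G), Subgroup.mem_centralizer_singleton_iff.mpr (hy.K_comm_t x.2)⟩ :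
          Subgroup.centralizer ({t} : Set G)))
        (fun u : {u : G // u * t = t * u ∧ u ∉ K} =>
          ⟨(u : G), Subgroup.mem_centralizer_singleton_iff.mpr u.2.1⟩)
      left_inv := fun g => by
        by_cases h : (g : G) ∈ K <;> simp [h]
      right_inv := fun z => by
        rcases z with x | u
        · simp [x.2]
        · simp [u.2.2] }
  rw [Nat.card_congr e, Nat.card_sum, hy.card_outer, two_mul]

theorem two_dvd_card : 2 ∣ Nat.card K := by
  have := orderOf_dvd_natCard (⟨t, hy.htK⟩ : K)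
  rwa [Subgroup.orderOf_mk, hy.ht] at this

theorem two_le_card : 2 ≤ Nat.card K := Nat.le_of_dvd Nat.card_pos hy.two_dvd_card

theorem card_G : Nat.card G = 2 * Nat.card K * Nat.card {y : G // orderOf y = 2} := by
  classical
  have h := (Subgroup.centralizer ({t} : Set G)).index_mul_card
  have e : Nat.card {y : G // orderOf y = 2} = (Subgroup.centralizer ({t} : Set G)).index := by
    rw [Subgroup.index]
    refine (Nat.card_congr (Equiv.ofBijective (fun q : G ⧸ Subgroup.centralizer ({t} : Set G) =>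
      (⟨q.out * t * q.out⁻¹, by rw [orderOf_conj, hy.ht]⟩ : {y : G // orderOf y = 2})) ⟨?_, ?_⟩)).symm
    · intro a b h
      have h' : a.out * t * a.out⁻¹ = b.out * t * b.out⁻¹ := congrArg Subtype.val h
      rw [← a.out_eq, ← b.out_eq]
      refine QuotientGroup.eq.mpr (Subgroup.mem_centralizer_singleton_iff.mpr ?_)
      calc a.out⁻¹ * b.out * t = a.out⁻¹ * (b.out * t * b.out⁻¹) * b.out := by group
        _ = a.out⁻¹ * (a.out * t * a.out⁻¹) * b.out := by rw [h']
        _ = t * (a.out⁻¹ * b.out) := by group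
    · rintro ⟨y, hy'⟩
      obtain ⟨g, hg⟩ := isConj_iff.mp (hy.hconj t y hy.ht hy')
      refine ⟨(g : G ⧸ Subgroup.centralizer ({t} : Set G)), Subtype.ext ?_⟩
      obtain ⟨⟨c, hc⟩, hc'⟩ := QuotientGroup.mk_out_eq_mul (Subgroup.centralizer ({t} : Set G)) g
      have hc2 := Subgroup.mem_centralizer_singleton_iff.mp hc
      show _ * t * _⁻¹ = y
      rw [hc', ← hg, mul_inv_rev]
      calc g * c * t * (c⁻¹ * g⁻¹) = g * (c * t * c⁻¹) * g⁻¹ := by group
        _ = g * t * g⁻¹ := by rw [hc2, mul_inv_cancel_right]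
  rw [e, ← h, hy.card_cent]
  ring

theorem inK_invol {u : G} (hu : orderOf u = 2) : InK K u := by
  obtain ⟨g, hg⟩ := isConj_iff.mp (hy.hconj u t hu hy.ht)
  exact ⟨g, hg ▸ hy.htK⟩

theorem inK_comm_t {g : G} (hg : g * t = t * g) : InK K g := by
  by_cases h : g ∈ K
  · exact inK_of_mem h
  · exact hy.inK_invol (hy.invol_of_not_mem hg h)

theorem inK_comm_invol {u g : G} (hu : orderOf u = 2) (h : g * u = u * g) : InK K g := by
  obtain ⟨a, ha⟩ := isConj_iff.mp (hy.hconj u t hu hy.ht)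
  rw [← inK_conj_iff a]
  refine hy.inK_comm_t ?_
  calc a * g * a⁻¹ * t = a * g * a⁻¹ * (a * u * a⁻¹) := by rw [ha]
    _ = a * (g * u) * a⁻¹ := by group
    _ = a * (u * g) * a⁻¹ := by rw [h]
    _ = (a * u * a⁻¹) * (a * g * a⁻¹) := by group
    _ = t * (a * g * a⁻¹) := by rw [ha]

theorem inK_comm {y g : G} (hy1 : y ≠ 1) (hyK : InK K y) (h : g * y = y * g) : InK K g := by
  obtain ⟨a, ha⟩ := hyK
  rw [← inK_conj_iff a]
  refine hy.inK_comm_t (hy.cent ha (conj_ne' hy1) ?_)
  calc a * g * a⁻¹ * (a * y * a⁻¹) = a * (g * y) * a⁻¹ := by group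
    _ = a * (y * g) * a⁻¹ := by rw [h]
    _ = (a * y * a⁻¹) * (a * g * a⁻¹) := by group

theorem card_inK :
    Nat.card {g : G // g ≠ 1 ∧ InK K g} * (2 * Nat.card K) =
      Nat.card G * (Nat.card K - 1) := by
  classical
  have hK1 : Nat.card {x : K // x ≠ 1} = Nat.card K - 1 := by
    haveI := Fintype.ofFinite K
    simp [Nat.card_eq_fintype_card, Fintype.card_subtype_compl]
  have e : Nat.card {g : G // g ≠ 1 ∧ InK K g} =
      (Subgroup.centralizer ({t} : Set G)).index * (Nat.card K - 1) := by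
    rw [Subgroup.index, ← hK1, ← Nat.card_prod]
    refine (Nat.card_congr (Equiv.ofBijective
      (fun z : (G ⧸ Subgroup.centralizer ({t} : Set G)) × {x : K // x ≠ 1} =>
        (⟨z.1.out * (z.2.1 : G) * z.1.out⁻¹,
          conj_ne' (fun e => z.2.2 (Subtype.ext e)),
          inK_conj _ (inK_of_mem z.2.1.2)⟩ : {g : G // g ≠ 1 ∧ InK K g})) ⟨?_, ?_⟩)).symm
    · rintro ⟨a, x, hx⟩ ⟨b, x', hx'⟩ h
      have h' : a.out * (x : G) * a.out⁻¹ = b.out * (x' : G) * b.out⁻¹ := congrArg Subtype.val h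
      have h2 : (b.out⁻¹ * a.out) * (x : G) * (b.out⁻¹ * a.out)⁻¹ = x' := by
        calc (b.out⁻¹ * a.out) * (x : G) * (b.out⁻¹ * a.out)⁻¹
            = b.out⁻¹ * (a.out * (x : G) * a.out⁻¹) * b.out := by group
          _ = _ := by rw [h']; group
      have hc : b.out⁻¹ * a.out ∈ Subgroup.centralizer ({t} : Set G) :=
        Subgroup.mem_centralizer_singleton_iff.mpr
          (hy.hTI _ x x.2 (fun e => hx (Subtype.ext e)) (h2 ▸ x'.2))
      have hab : b = a := by rw [← a.out_eq, ← b.out_eq]; exact QuotientGroup.eq.mpr hc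
      subst hab
      simp only [inv_mul_cancel, one_mul, inv_one, mul_one] at h2
      obtain rfl : x = x' := Subtype.ext h2
      rfl
    · rintro ⟨g, hg1, a, ha⟩
      set q : G ⧸ Subgroup.centralizer ({t} : Set G) := QuotientGroup.mk a⁻¹ with hq
      obtain ⟨⟨c, hc⟩, hc'⟩ := QuotientGroup.mk_out_eq_mul (Subgroup.centralizer ({t} : Set G)) a⁻¹
      have hc2 := Subgroup.mem_centralizer_singleton_iff.mp hc
      have hci : c⁻¹ * t = t * c⁻¹ := by
        rw [inv_mul_eq_iff_eq_mul, ← mul_assoc, hc2, mul_inv_cancel_right]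
      have hm : c⁻¹ * (a * g * a⁻¹) * c⁻¹⁻¹ ∈ K := by
        rcases hy.conj_mem hci ha with e | e <;> rw [e]
        exacts [ha, K.inv_mem ha]
      refine ⟨⟨q, ⟨_, hm⟩, fun e => ?_⟩, Subtype.ext ?_⟩
      · exact conj_ne' (conj_ne' hg1) (congrArg Subtype.val e)
      · show q.out * (c⁻¹ * (a * g * a⁻¹) * c⁻¹⁻¹) * q.out⁻¹ = g
        rw [hq, hc']
        group
  rw [e, ← hy.card_cent, mul_right_comm, Subgroup.index_mul_card]

/-- The involutions `y` for which `t * y` is outside the conjugates of `K`. -/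
def _root_.Cfsg.Agent.BSW.Out (t : G) (K : Subgroup G) : Type _ :=
  {y : G // orderOf y = 2 ∧ ¬ InK K (t * y)}

theorem orderOf_t_mul_of_inv {z : G} (hz : t * z * t⁻¹ = z⁻¹) (hzt : z ≠ t) :
    orderOf (t * z) = 2 := by
  refine orderOf_two ?_ fun e => hzt ?_
  · rw [inv_two hy.ht] at hz
    rw [← mul_assoc, hz, inv_mul_cancel]
  · rw [eq_inv_of_mul_eq_one_right e, inv_two hy.ht]

theorem t_inverts_of_invol {y : G} (hy' : orderOf y = 2) : t * (t * y) * t⁻¹ = (t * y)⁻¹ := by
  rw [mul_inv_rev, inv_two hy.ht, inv_two hy', ← mul_assoc, mul_self_two hy.ht, one_mul]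

theorem card_inner :
    Nat.card {y : G // orderOf y = 2 ∧ InK K (t * y)} + 1 + 1 =
      1 + 1 + 1 + Nat.card K + Nat.card K * (Nat.card K - 2) := by
  classical
  have hK2 : Nat.card {x : K // (x : G) ≠ 1 ∧ (x : G) ≠ t} + 2 = Nat.card K := by
    haveI := Fintype.ofFinite K
    have h2 : (({1, ⟨t, hy.htK⟩} : Finset K)).card = 2 :=
      Finset.card_pair (fun e => hy.tne (congrArg Subtype.val e).symm)
    have h3 : (Finset.univ.filter fun x : K => (x : G) ≠ 1 ∧ (x : G) ≠ t) =
        ({1, ⟨t, hy.htK⟩} : Finset K)ᶜ := by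
      ext x
      rw [Finset.mem_filter, Finset.mem_compl, Finset.mem_insert, Finset.mem_singleton,
        not_or, ne_eq, ne_eq, ← Subtype.val_inj, ← Subtype.val_inj (b := (⟨t, hy.htK⟩ : K)),
        Subgroup.coe_one]
      exact and_iff_right (Finset.mem_univ x)
    rw [Nat.card_eq_fintype_card, Fintype.card_subtype, h3, Finset.card_compl, h2,
      ← Nat.card_eq_fintype_card]
    have := hy.two_le_card
    omega
  have hpick : ∀ u : {u : G // u * t = t * u ∧ u ∉ K}, ∃ h : G, h * t * h⁻¹ = u := fun u =>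
    isConj_iff.mp (hy.hconj t u hy.ht (hy.invol_of_not_mem u.2.1 u.2.2))
  choose hh hhh using hpick
  -- `t` inverts the conjugate of `K` attached to an outer involution
  have hinvu : ∀ (u : {u : G // u * t = t * u ∧ u ∉ K}) (x : G), x ∈ K →
      t * (hh u * x * (hh u)⁻¹) * t⁻¹ = (hh u * x * (hh u)⁻¹)⁻¹ := by
    intro u x hx
    set h := hh u
    have hc : (h⁻¹ * t * h) * t = t * (h⁻¹ * t * h) := by
      calc (h⁻¹ * t * h) * t = h⁻¹ * (t * (h * t * h⁻¹)) * h := by group
        _ = h⁻¹ * (t * u) * h := by rw [hhh]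
        _ = h⁻¹ * ((h * t * h⁻¹) * t) * h := by rw [hhh, u.2.1]
        _ = t * (h⁻¹ * t * h) := by group
    have hnK : h⁻¹ * t * h ∉ K := by
      intro hK
      have := hy.eq_t_of_invol hK (by
        rw [show h⁻¹ * t * h = h⁻¹ * t * h⁻¹⁻¹ by group, orderOf_conj, hy.ht])
      refine u.2.2 ?_
      have e : (u : G) = t := by
        rw [← hhh u]
        calc h * t * h⁻¹ = h * (h⁻¹ * t * h) * h⁻¹ := by rw [this]
          _ = t := by group
      rw [e]; exact hy.htK
    have e := hy.conj_inv hc hnK hx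
    calc t * (h * x * h⁻¹) * t⁻¹
        = h * ((h⁻¹ * t * h) * x * (h⁻¹ * t * h)⁻¹) * h⁻¹ := by group
      _ = h * x⁻¹ * h⁻¹ := by rw [e]
      _ = _ := by group
  let f : Option ({u : G // u * t = t * u ∧ u ∉ K} ⊕
      ({u : G // u * t = t * u ∧ u ∉ K} × {x : K // (x : G) ≠ 1 ∧ (x : G) ≠ t})) →
      {y : G // orderOf y = 2 ∧ InK K (t * y)} := fun z => match z with
    | none => ⟨t, hy.ht, by rw [mul_self_two hy.ht]; exact inK_one K⟩
    | some (Sum.inl u) => ⟨u, hy.invol_of_not_mem u.2.1 u.2.2, hy.inK_comm_t (by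
        rw [mul_assoc, u.2.1])⟩
    | some (Sum.inr p) => ⟨t * (hh p.1 * (p.2.1 : G) * (hh p.1)⁻¹),
        hy.orderOf_t_mul_of_inv (hinvu p.1 _ p.2.1.2) (by
          intro e
          have h1 := orderOf_conj (hh p.1) (p.2.1 : G)
          rw [e, hy.ht] at h1
          exact p.2.2.2 (hy.eq_t_of_invol p.2.1.2 h1.symm)),
        by rw [← mul_assoc, mul_self_two hy.ht, one_mul]; exact inK_conj _ (inK_of_mem p.2.1.2)⟩
  -- the third kind does not commute with `t`
  have hthird : ∀ p : {u : G // u * t = t * u ∧ u ∉ K} × {x : K // (x : G) ≠ 1 ∧ (x : G) ≠ t},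
      ¬ (t * (hh p.1 * (p.2.1 : G) * (hh p.1)⁻¹)) * t = t * (t * (hh p.1 * (p.2.1 : G) * (hh p.1)⁻¹)) := by
    intro p e
    set z := hh p.1 * (p.2.1 : G) * (hh p.1)⁻¹ with hz
    have e2 : z * t = t * z := by
      rw [mul_assoc] at e
      exact mul_left_cancel e
    have h3 := hinvu p.1 _ p.2.1.2
    rw [← hz, ← e2, mul_inv_cancel_right] at h3
    refine hy.sq_ne p.2.1.2 p.2.2.1 p.2.2.2 ?_
    have h4 : z * z = 1 := by nth_rw 1 [h3]; exact inv_mul_cancel z
    calc (p.2.1 : G) * (p.2.1 : G) = (hh p.1)⁻¹ * (z * z) * hh p.1 := by rw [hz]; group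
      _ = 1 := by rw [h4]; group
  have hf : Function.Bijective f := by
    constructor
    · rintro (_ | u | p) (_ | u' | p') h <;> have h' := congrArg Subtype.val h <;>
        simp only [f] at h'
      · rfl
      · exact absurd (h' ▸ hy.htK) u'.2.2
      · exact absurd (h' ▸ rfl) (hthird p')
      · exact absurd (h'.symm ▸ hy.htK) u.2.2
      · rw [Subtype.ext h']
      · exact absurd (h' ▸ u.2.1) (hthird p')
      · exact absurd (h'.symm ▸ rfl) (hthird p)
      · exact absurd (h'.symm ▸ u'.2.1) (hthird p)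
      · have e := mul_left_cancel h'
        have hc : (hh p'.1)⁻¹ * hh p.1 * t = t * ((hh p'.1)⁻¹ * hh p.1) := by
          refine hy.hTI _ p.2.1 p.2.1.2 p.2.2.1 ?_
          have : (hh p'.1)⁻¹ * hh p.1 * (p.2.1 : G) * ((hh p'.1)⁻¹ * hh p.1)⁻¹ = p'.2.1 := by
            calc _ = (hh p'.1)⁻¹ * (hh p.1 * (p.2.1 : G) * (hh p.1)⁻¹) * hh p'.1 := by group
              _ = _ := by rw [e]; group
          rw [this]; exact p'.2.1.2
        have hu : p.1 = p'.1 := by
          apply Subtype.ext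
          rw [← hhh p.1, ← hhh p'.1]
          calc hh p.1 * t * (hh p.1)⁻¹
              = hh p'.1 * ((hh p'.1)⁻¹ * hh p.1 * t) * (hh p.1)⁻¹ := by group
            _ = _ := by rw [hc]; group
        have hx : p.2 = p'.2 := by
          apply Subtype.ext; apply Subtype.ext
          rw [hu] at e
          exact mul_left_cancel (mul_right_cancel e)
        rw [Prod.ext hu hx]
    · rintro ⟨y, hy', hK⟩
      by_cases h1 : y = t
      · exact ⟨none, Subtype.ext h1.symm⟩
      by_cases h2 : y * t = t * y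
      · exact ⟨some (Sum.inl ⟨y, h2, fun hK' => h1 (hy.eq_t_of_invol hK' hy')⟩), rfl⟩
      obtain ⟨a, ha⟩ := hK
      set x := a * (t * y) * a⁻¹ with hx
      have hx1 : x ≠ 1 := by
        refine conj_ne' fun e => h1 ?_
        rw [eq_inv_of_mul_eq_one_right e, inv_two hy.ht]
      have hxt : x ≠ t := by
        intro e
        have h3 : orderOf (t * y) = 2 := by rw [← orderOf_conj a (t * y), ← hx, e, hy.ht]
        have h4 := inv_two h3
        rw [mul_inv_rev, inv_two hy.ht, inv_two hy'] at h4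
        exact h2 h4
      have hzinv := hy.t_inverts_of_invol hy'
      have hw : (a * t * a⁻¹) * t = t * (a * t * a⁻¹) := by
        refine hy.hTI _ x ha hx1 ?_
        have : (a * t * a⁻¹) * x * (a * t * a⁻¹)⁻¹ = x⁻¹ := by
          calc _ = a * (t * (t * y) * t⁻¹) * a⁻¹ := by rw [hx]; group
            _ = a * (t * y)⁻¹ * a⁻¹ := by rw [hzinv]
            _ = _ := by rw [hx]; group
        rw [this]; exact K.inv_mem ha
      have hu1 : (a⁻¹ * t * a) * t = t * (a⁻¹ * t * a) := by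
        calc (a⁻¹ * t * a) * t = a⁻¹ * (t * (a * t * a⁻¹)) * a := by group
          _ = a⁻¹ * ((a * t * a⁻¹) * t) * a := by rw [hw]
          _ = _ := by group
      have hu2 : a⁻¹ * t * a ∉ K := by
        intro hK'
        have h5 := hy.eq_t_of_invol hK' (by
          rw [show a⁻¹ * t * a = a⁻¹ * t * a⁻¹⁻¹ by group, orderOf_conj, hy.ht])
        have h6 : a * t = t * a := by
          calc a * t = a * (a⁻¹ * t * a) := by rw [h5]
            _ = t * a := by group
        have h6' : a⁻¹ * t = t * a⁻¹ := by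
          rw [inv_mul_eq_iff_eq_mul, ← mul_assoc, h6, mul_inv_cancel_right]
        have h7 : t * y ∈ K := by
          rcases hy.conj_mem h6' ha with e | e <;>
            rw [show a⁻¹ * x * a⁻¹⁻¹ = t * y by rw [hx]; group] at e <;> rw [e]
          exacts [ha, K.inv_mem ha]
        refine h2 ?_
        have h8 := hy.K_comm_t h7
        calc y * t = t⁻¹ * ((t * y) * t) := by group
          _ = t⁻¹ * (t * (t * y)) := by rw [h8]
          _ = t * y := by group
      set u : {u : G // u * t = t * u ∧ u ∉ K} := ⟨_, hu1, hu2⟩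
      have hcc : ((hh u)⁻¹ * a⁻¹) * t = t * ((hh u)⁻¹ * a⁻¹) := by
        have := hhh u
        calc ((hh u)⁻¹ * a⁻¹) * t = (hh u)⁻¹ * (a⁻¹ * t * a) * a⁻¹ := by group
          _ = (hh u)⁻¹ * (hh u * t * (hh u)⁻¹) * a⁻¹ := by rw [this]
          _ = _ := by group
      have hx' : (hh u)⁻¹ * (t * y) * hh u ∈ K := by
        have e : (hh u)⁻¹ * (t * y) * hh u =
            ((hh u)⁻¹ * a⁻¹) * x * ((hh u)⁻¹ * a⁻¹)⁻¹ := by rw [hx]; group
        rw [e]
        rcases hy.conj_mem hcc ha with e | e <;> rw [e]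
        exacts [ha, K.inv_mem ha]
      have hne : (hh u)⁻¹ * (t * y) * hh u ≠ 1 ∧ (hh u)⁻¹ * (t * y) * hh u ≠ t := by
        have e : (hh u)⁻¹ * (t * y) * hh u =
            ((hh u)⁻¹ * a⁻¹) * x * ((hh u)⁻¹ * a⁻¹)⁻¹ := by rw [hx]; group
        rw [e]
        refine ⟨conj_ne' hx1, fun e' => hxt ?_⟩
        refine hy.eq_t_of_invol ha ?_
        rw [← orderOf_conj ((hh u)⁻¹ * a⁻¹) x, e', hy.ht]
      refine ⟨some (Sum.inr (u, ⟨⟨_, hx'⟩, hne⟩)), Subtype.ext ?_⟩
      show t * (hh u * ((hh u)⁻¹ * (t * y) * hh u) * (hh u)⁻¹) = y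
      rw [show hh u * ((hh u)⁻¹ * (t * y) * hh u) * (hh u)⁻¹ = t * y by group, ← mul_assoc,
        mul_self_two hy.ht, one_mul]
  rw [← Nat.card_congr (Equiv.ofBijective f hf), Finite.card_option, Nat.card_sum, Nat.card_prod,
    hy.card_outer]
  obtain ⟨m, hm⟩ : ∃ m, Nat.card {x : K // (x : G) ≠ 1 ∧ (x : G) ≠ t} = m := ⟨_, rfl⟩
  rw [hm] at hK2 ⊢
  rw [← hK2, Nat.add_sub_cancel]
  ring

/-- The number of involutions in terms of the pairs outside `K`. -/
theorem card_invol :
    Nat.card {y : G // orderOf y = 2} =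
      Nat.card (Out t K) + 1 + Nat.card K + Nat.card K * (Nat.card K - 2) := by
  classical
  have e : {y : G // orderOf y = 2} ≃
      (Out t K) ⊕ {y : G // orderOf y = 2 ∧ InK K (t * y)} :=
    ((Equiv.sumCompl (fun y : {y : G // orderOf y = 2} => InK K (t * (y : G)))).symm.trans
      (Equiv.sumComm _ _)).trans
      (Equiv.sumCongr
        (Equiv.subtypeSubtypeEquivSubtypeInter (fun y => orderOf y = 2)
          (fun y => ¬ InK K (t * y)))
        (Equiv.subtypeSubtypeEquivSubtypeInter (fun y => orderOf y = 2)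
          (fun y => InK K (t * y))))
  haveI : Finite (Out t K) := Subtype.finite
  rw [Nat.card_congr e, Nat.card_sum]
  have := hy.card_inner
  omega

/-- Centralizing `t`, an element conjugates pairs outside `K` to such pairs, freely. -/
theorem two_card_dvd_out : 2 * Nat.card K ∣ Nat.card (Out t K) := by
  classical
  rw [← hy.card_cent]
  set C := Subgroup.centralizer ({t} : Set G)
  letI : SMul C (Out t K) := ⟨fun c y => ⟨(c : G) * y.1 * (c : G)⁻¹, by rw [orderOf_conj]; exact y.2.1,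
    by
      have e : t * ((c : G) * y.1 * (c : G)⁻¹) = (c : G) * (t * y.1) * (c : G)⁻¹ := by
        rw [← mul_assoc, ← mul_assoc, ← Subgroup.mem_centralizer_singleton_iff.mp c.2,
          mul_assoc (c : G) t]
      rw [e, inK_conj_iff]; exact y.2.2⟩⟩
  letI : MulAction C (Out t K) :=
    { one_smul := fun y => Subtype.ext (show ((1 : C) : G) * y.1 * ((1 : C) : G)⁻¹ = y.1 by simp)
      mul_smul := fun a b y => Subtype.ext
        (show ((a * b : C) : G) * y.1 * ((a * b : C) : G)⁻¹ =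
          (a : G) * ((b : G) * y.1 * (b : G)⁻¹) * (a : G)⁻¹ by
            push_cast; group) }
  haveI : Finite (Out t K) := Subtype.finite
  refine ⟨Nat.card (MulAction.orbitRel.Quotient C (Out t K)), ?_⟩
  rw [mul_comm, ← Nat.card_prod]
  refine (Nat.card_congr ((MulAction.sigmaFixedByEquivOrbitsProdGroup C (Out t K)).symm.trans
    ?_)).symm
  refine
    { toFun := fun z => z.2.1
      invFun := fun y => ⟨1, y, one_smul C y⟩
      left_inv := ?_
      right_inv := fun y => rfl }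
  rintro ⟨c, y, hc⟩
  have hc1 : c = 1 := by
    by_contra h
    have hcG : (c : G) ≠ 1 := fun e => h (Subtype.ext e)
    have hcy : (c : G) * y.1 * (c : G)⁻¹ = y.1 := congrArg Subtype.val hc
    have hct := Subgroup.mem_centralizer_singleton_iff.mp c.2
    have hz : (t * y.1) * (c : G) = (c : G) * (t * y.1) := by
      rw [← mul_assoc, hct, mul_assoc t, mul_assoc t, mul_inv_eq_iff_eq_mul.mp hcy]
    exact y.2.2 (hy.inK_comm hcG (hy.inK_comm_t hct) hz)
  subst hc1
  rfl

/-- The number of involutions `u` with `g * u` an involution. -/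
noncomputable def _root_.Cfsg.Agent.BSW.nn (g : G) : ℕ :=
  Nat.card {u : G // orderOf u = 2 ∧ orderOf (g * u) = 2}

theorem nn_inverts {g u : G} (hu : orderOf u = 2) (h : orderOf (g * u) = 2) :
    u * g * u⁻¹ = g⁻¹ := by
  refine eq_inv_of_mul_eq_one_left ?_
  rw [inv_two hu]
  calc u * g * u * g = u * ((g * u) * (g * u)) * u⁻¹ := by group
    _ = 1 := by rw [mul_self_two h]; group

theorem nn_t : nn t = Nat.card K := by
  rw [← hy.card_outer, nn]
  refine Nat.card_congr (Equiv.subtypeEquivRight fun u => ⟨?_, ?_⟩)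
  · rintro ⟨hu, htu⟩
    have h1 := hy.nn_inverts hu htu
    rw [inv_two hy.ht, mul_inv_eq_iff_eq_mul] at h1
    refine ⟨h1, fun hK => ?_⟩
    rw [hy.eq_t_of_invol hK hu, mul_self_two hy.ht, orderOf_one] at htu
    exact absurd htu (by norm_num)
  · rintro ⟨h1, hK⟩
    refine ⟨hy.invol_of_not_mem h1 hK, hy.invol_of_not_mem ?_ fun h => hK ?_⟩
    · rw [mul_assoc, h1]
    · exact (K.mul_mem_cancel_left hy.htK).mp h

theorem nn_mem {g : G} (hg : g ∈ K) (h1 : g ≠ 1) (ht' : g ≠ t) : nn g = Nat.card K := by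
  rw [← hy.card_outer, nn]
  refine Nat.card_congr (Equiv.subtypeEquivRight fun u => ⟨?_, ?_⟩)
  · rintro ⟨hu, hgu⟩
    have h2 := hy.nn_inverts hu hgu
    refine ⟨hy.hTI u g hg h1 (h2 ▸ K.inv_mem hg), fun hK => ?_⟩
    rw [hy.comm u hK g hg, mul_inv_cancel_right] at h2
    exact hy.sq_ne hg h1 ht' (by nth_rw 1 [h2]; exact inv_mul_cancel g)
  · rintro ⟨h2, hK⟩
    refine ⟨hy.invol_of_not_mem h2 hK, hy.invol_of_not_mem ?_ fun h => hK ?_⟩
    · rw [mul_assoc, h2, ← mul_assoc, hy.K_comm_t hg, mul_assoc]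
    · exact (K.mul_mem_cancel_left hg).mp h

end Hyp

end Cfsg.Agent.BSW
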