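import Mathlib
import Cfsg.Agent.Lib.Recog.BSW.Basic

/-!
# Brauer–Suzuki–Wall: elements outside the conjugates of `K` inverted by involutions
-/

set_option autoImplicit false
set_option linter.all false

namespace Cfsg.Agent.BSW

variable {G : Type*} [Group G] [Finite G]

/-- An element outside the conjugates of `K` inverted by `t`. -/
def SR (t : G) (K : Subgroup G) (z : G) : Prop := ¬ InK K z ∧ t * z * t⁻¹ = z⁻¹

/-- The order of the centralizer. -/
noncomputable def cc (g : G) : ℕ := Nat.card (Subgroup.centralizer ({g} : Set G))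

/-- The elements inverted by `t` with centralizer of order `a`. -/
noncomputable def LL (t : G) (K : Subgroup G) (a : ℕ) : ℕ :=
  Nat.card {z : G // SR t K z ∧ cc z = a}

/-- The strongly real elements outside with centralizer of order `a`. -/
noncomputable def NN (K : Subgroup G) (a : ℕ) : ℕ :=
  Nat.card {g : G // ¬ InK K g ∧ nn g ≠ 0 ∧ cc g = a}

theorem cc_conj (h g : G) : cc (h * g * h⁻¹) = cc g := by
  unfold cc
  refine (Nat.card_congr ((MulAut.conj h).toEquiv.subtypeEquiv fun x => ?_)).symm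
  rw [Subgroup.mem_centralizer_singleton_iff, Subgroup.mem_centralizer_singleton_iff]
  show x * g = g * x ↔ h * x * h⁻¹ * (h * g * h⁻¹) = h * g * h⁻¹ * (h * x * h⁻¹)
  simp only [mul_assoc, inv_mul_cancel_left, mul_left_cancel_iff]
  rw [← mul_assoc x, ← mul_assoc g, mul_left_inj]

theorem nn_conj (h g : G) : nn (h * g * h⁻¹) = nn g := by
  unfold nn
  refine (Nat.card_congr ((MulAut.conj h).toEquiv.subtypeEquiv fun x => ?_)).symm
  show orderOf x = 2 ∧ orderOf (g * x) = 2 ↔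
    orderOf (h * x * h⁻¹) = 2 ∧ orderOf (h * g * h⁻¹ * (h * x * h⁻¹)) = 2
  rw [orderOf_conj, show h * g * h⁻¹ * (h * x * h⁻¹) = h * (g * x) * h⁻¹ by group, orderOf_conj]

variable {t : G} {K : Subgroup G} {s : G}

namespace Hyp

variable (hy : Hyp t K s)
include hy

theorem sr_ne_one {z : G} (hz : SR t K z) : z ≠ 1 := fun e => hz.1 (e ▸ inK_one K)

theorem sr_ne_t {z : G} (hz : SR t K z) : z ≠ t := fun e => hz.1 (e ▸ inK_of_mem hy.htK)

theorem sr_conj {z h : G} (hh : h * t = t * h) (hz : SR t K z) : SR t K (h * z * h⁻¹) := by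
  refine ⟨(inK_conj_iff h).not.mpr hz.1, ?_⟩
  have hh' : h⁻¹ * t⁻¹ = t⁻¹ * h⁻¹ := by rw [← mul_inv_rev, ← mul_inv_rev, hh]
  calc t * (h * z * h⁻¹) * t⁻¹ = (t * h) * z * (h⁻¹ * t⁻¹) := by group
    _ = (h * t) * z * (t⁻¹ * h⁻¹) := by rw [hh, hh']
    _ = h * (t * z * t⁻¹) * h⁻¹ := by group
    _ = h * z⁻¹ * h⁻¹ := by rw [hz.2]
    _ = _ := by group

theorem notInK_cent {z y : G} (hz : ¬ InK K z) (hy1 : y ≠ 1) (h : y * z = z * y) : ¬ InK K y :=
  fun hK => hz (hy.inK_comm hy1 hK h.symm)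

theorem odd_cc {z : G} (hz : ¬ InK K z) : Odd (cc z) := by
  rw [Nat.odd_iff, ← Nat.two_dvd_ne_zero]
  intro h
  haveI : Fact (Nat.Prime 2) := ⟨Nat.prime_two⟩
  obtain ⟨u, hu⟩ := exists_prime_orderOf_dvd_card' (G := Subgroup.centralizer ({z} : Set G)) 2 h
  exact hz (hy.inK_comm_invol (u := (u : G)) (by rw [Subgroup.orderOf_coe]; exact hu)
    (Subgroup.mem_centralizer_singleton_iff.mp u.2).symm)

theorem t_conj_cent {z y : G} (hz : SR t K z) (h : y * z = z * y) :
    (t * y * t⁻¹) * z = z * (t * y * t⁻¹) := by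
  have e : t * z⁻¹ * t⁻¹ = z := by
    calc t * z⁻¹ * t⁻¹ = (t * z * t⁻¹)⁻¹ := by group
      _ = z := by rw [hz.2, inv_inv]
  calc (t * y * t⁻¹) * z = (t * y * t⁻¹) * (t * z⁻¹ * t⁻¹) := by rw [e]
    _ = t * (y * z⁻¹) * t⁻¹ := by group
    _ = t * (z⁻¹ * y) * t⁻¹ := by rw [(Commute.inv_right (a := y) h).eq]
    _ = (t * z⁻¹ * t⁻¹) * (t * y * t⁻¹) := by group
    _ = z * (t * y * t⁻¹) := by rw [e]

theorem fpf {z y : G} (hz : SR t K z) (h : y * z = z * y) (hyt : y * t = t * y) : y = 1 := by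
  by_contra h1
  exact hy.notInK_cent hz.1 h1 h (hy.inK_comm_t hyt)

theorem t_inv {z y : G} (hz : SR t K z) (h : y * z = z * y) : t * y * t⁻¹ = y⁻¹ := by
  set C := Subgroup.centralizer ({z} : Set G) with hC
  have hmem : ∀ x : C, t * (x : G) * t⁻¹ ∈ C := fun x => Subgroup.mem_centralizer_singleton_iff.mpr
    (hy.t_conj_cent hz (Subgroup.mem_centralizer_singleton_iff.mp x.2))
  let φ : C →* C :=
    { toFun := fun x => ⟨t * (x : G) * t⁻¹, hmem x⟩
      map_one' := Subtype.ext (by simp)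
      map_mul' := fun a b => Subtype.ext (by push_cast; group) }
  have hfix : ∀ x, φ x = x → x = 1 := fun x hx => Subtype.ext
    (hy.fpf hz (Subgroup.mem_centralizer_singleton_iff.mp x.2)
      (mul_inv_eq_iff_eq_mul.mp (congrArg Subtype.val hx)).symm)
  have hinv : Function.Involutive φ := fun x => Subtype.ext (by
    show t * (t * (x : G) * t⁻¹) * t⁻¹ = x
    rw [inv_two hy.ht]
    calc t * (t * (x : G) * t) * t = (t * t) * x * (t * t) := by group
      _ = x := by rw [mul_self_two hy.ht]; group)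
  haveI : Finite C := inferInstance
  have h2 := MonoidHom.FixedPointFree.coe_eq_inv_of_involutive (φ := φ) hfix hinv
  have h3 := congrFun h2 ⟨y, Subgroup.mem_centralizer_singleton_iff.mpr h⟩
  simpa [φ] using congrArg Subtype.val h3

theorem comm_cent {z y w : G} (hz : SR t K z) (hyz : y * z = z * y) (hwz : w * z = z * w) :
    y * w = w * y := by
  have hp : (y * w) * z = z * (y * w) := (Commute.mul_left hyz hwz).eq
  have e := hy.t_inv hz hp
  have e2 : t * (y * w) * t⁻¹ = (t * y * t⁻¹) * (t * w * t⁻¹) := by group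
  rw [e2, hy.t_inv hz hyz, hy.t_inv hz hwz] at e
  calc y * w = (w⁻¹ * y⁻¹)⁻¹ := by group
    _ = ((y * w)⁻¹)⁻¹ := by group
    _ = (y⁻¹ * w⁻¹)⁻¹ := by rw [← e]
    _ = w * y := by group

theorem sr_cent {z y : G} (hz : SR t K z) (h : y * z = z * y) (hy1 : y ≠ 1) : SR t K y :=
  ⟨hy.notInK_cent hz.1 hy1 h, hy.t_inv hz h⟩

theorem cent_eq {z y : G} (hz : SR t K z) (h : y * z = z * y) (hy1 : y ≠ 1) :
    Subgroup.centralizer ({y} : Set G) = Subgroup.centralizer ({z} : Set G) := by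
  ext w
  rw [Subgroup.mem_centralizer_singleton_iff, Subgroup.mem_centralizer_singleton_iff]
  exact ⟨fun hw => hy.comm_cent (hy.sr_cent hz h hy1) hw h.symm,
    fun hw => hy.comm_cent hz hw h⟩

theorem nn_sr {z : G} (hz : SR t K z) : nn z = cc z := by
  unfold nn cc
  refine Nat.card_congr
    { toFun := fun u => ⟨t * u.1, Subgroup.mem_centralizer_singleton_iff.mpr ?_⟩
      invFun := fun c => ⟨t * c.1, ?_, ?_⟩
      left_inv := fun u => Subtype.ext (by
        show t * (t * u.1) = u.1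
        rw [← mul_assoc, mul_self_two hy.ht, one_mul])
      right_inv := fun c => Subtype.ext (by
        show t * (t * c.1) = c.1
        rw [← mul_assoc, mul_self_two hy.ht, one_mul]) }
  · have h1 := hy.nn_inverts u.2.1 u.2.2
    have h2 : u.1 * z = z⁻¹ * u.1 := mul_inv_eq_iff_eq_mul.mp h1
    have h3 : t * z⁻¹ = z * t := by
      have h4 : t * z = z⁻¹ * t := mul_inv_eq_iff_eq_mul.mp hz.2
      rw [mul_inv_eq_iff_eq_mul, mul_assoc, h4, ← mul_assoc, mul_inv_cancel, one_mul]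
    rw [mul_assoc, h2, ← mul_assoc, h3, mul_assoc]
  · have hc := Subgroup.mem_centralizer_singleton_iff.mp c.2
    exact hy.orderOf_t_mul_of_inv (hy.t_inv hz hc)
      (fun e => hz.1 (hy.inK_comm_t (by rw [← e]; exact hc.symm)))
  · have hc := Subgroup.mem_centralizer_singleton_iff.mp c.2
    have hd : (c.1⁻¹ * z) * z = z * (c.1⁻¹ * z) :=
      (Commute.mul_left (Commute.inv_left (a := c.1) hc) (Commute.refl z)).eq
    have e : z * (t * c.1) = t * (z⁻¹ * c.1) := by
      have h4 : t * z⁻¹ = z * t := by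
        have h4 : t * z = z⁻¹ * t := mul_inv_eq_iff_eq_mul.mp hz.2
        rw [mul_inv_eq_iff_eq_mul, mul_assoc, h4, ← mul_assoc, mul_inv_cancel, one_mul]
      rw [← mul_assoc, ← mul_assoc, h4]
    rw [e]
    have hd' : (z⁻¹ * c.1) * z = z * (z⁻¹ * c.1) :=
      (Commute.mul_left (Commute.inv_left (a := z) rfl) hc).eq
    exact hy.orderOf_t_mul_of_inv (hy.t_inv hz hd')
      (fun e' => hz.1 (hy.inK_comm_t (by rw [← e']; exact hd'.symm)))

theorem exists_sr {g : G} (hg : ¬ InK K g) (hn : nn g ≠ 0) :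
    ∃ h : G, SR t K (h * g * h⁻¹) := by
  obtain ⟨⟨u, hu, hgu⟩⟩ := (Nat.card_ne_zero.mp hn).1
  obtain ⟨h, hh⟩ := isConj_iff.mp (hy.hconj u t hu hy.ht)
  refine ⟨h, (inK_conj_iff h).not.mpr hg, ?_⟩
  rw [← hh]
  calc h * u * h⁻¹ * (h * g * h⁻¹) * (h * u * h⁻¹)⁻¹ = h * (u * g * u⁻¹) * h⁻¹ := by group
    _ = _ := by rw [hy.nn_inverts hu hgu]; group

theorem nn_real {g : G} (hg : ¬ InK K g) (hn : nn g ≠ 0) : nn g = cc g := by
  obtain ⟨h, hh⟩ := hy.exists_sr hg hn
  rw [← nn_conj h g, hy.nn_sr hh, cc_conj]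

theorem out_equiv : Nat.card (Out t K) = Nat.card {z : G // SR t K z} := by
  refine Nat.card_congr
    { toFun := fun y => ⟨t * y.1, y.2.2, hy.t_inverts_of_invol y.2.1⟩
      invFun := fun z => ⟨t * z.1, hy.orderOf_t_mul_of_inv z.2.2 (hy.sr_ne_t z.2), by
        rw [← mul_assoc, mul_self_two hy.ht, one_mul]; exact z.2.1⟩
      left_inv := fun y => Subtype.ext (by
        show t * (t * y.1) = y.1
        rw [← mul_assoc, mul_self_two hy.ht, one_mul])
      right_inv := fun z => Subtype.ext (by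
        show t * (t * z.1) = z.1
        rw [← mul_assoc, mul_self_two hy.ht, one_mul]) }

/-- Double counting of the pairs (involution, inverted element). -/
theorem mul_NN (a : ℕ) :
    a * NN K a = Nat.card {y : G // orderOf y = 2} * LL t K a := by
  classical
  have hpick : ∀ u : {y : G // orderOf y = 2}, ∃ h : G, h * t * h⁻¹ = u := fun u =>
    isConj_iff.mp (hy.hconj t u hy.ht u.2)
  choose hh hhh using hpick
  let P := {p : G × G // orderOf p.1 = 2 ∧ orderOf (p.2 * p.1) = 2 ∧ ¬ InK K p.2 ∧ cc p.2 = a}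
  have e1 : Nat.card P = a * NN K a := by
    have e : P ≃ Σ g : {g : G // ¬ InK K g ∧ nn g ≠ 0 ∧ cc g = a},
        {u : G // orderOf u = 2 ∧ orderOf (g.1 * u) = 2} :=
      { toFun := fun p => ⟨⟨p.1.2, p.2.2.2.1, Nat.card_ne_zero.mpr
          ⟨⟨⟨p.1.1, p.2.1, p.2.2.1⟩⟩, inferInstance⟩, p.2.2.2.2⟩, ⟨p.1.1, p.2.1, p.2.2.1⟩⟩
        invFun := fun z => ⟨(z.2.1, z.1.1), z.2.2.1, z.2.2.2, z.1.2.1, z.1.2.2.2⟩
        left_inv := fun p => rfl
        right_inv := fun z => rfl }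
    haveI := Fintype.ofFinite {g : G // ¬ InK K g ∧ nn g ≠ 0 ∧ cc g = a}
    rw [Nat.card_congr e, Nat.card_sigma]
    have : ∀ g : {g : G // ¬ InK K g ∧ nn g ≠ 0 ∧ cc g = a},
        Nat.card {u : G // orderOf u = 2 ∧ orderOf (g.1 * u) = 2} = a := fun g =>
      (hy.nn_real g.2.1 g.2.2.1).trans g.2.2.2
    simp only [this, Finset.sum_const, Finset.card_univ, smul_eq_mul]
    rw [← Nat.card_eq_fintype_card, mul_comm, NN]
  rw [← e1, LL, ← Nat.card_prod]
  refine Nat.card_congr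
    { toFun := fun p => (⟨p.1.1, p.2.1⟩,
        ⟨(hh ⟨p.1.1, p.2.1⟩)⁻¹ * p.1.2 * (hh ⟨p.1.1, p.2.1⟩)⁻¹⁻¹, ⟨(inK_conj_iff _).not.mpr p.2.2.2.1, ?_⟩,
          by rw [cc_conj]; exact p.2.2.2.2⟩)
      invFun := fun q => ⟨(q.1.1, hh q.1 * q.2.1 * (hh q.1)⁻¹), q.1.2, ?_,
        (inK_conj_iff _).not.mpr q.2.2.1.1, by rw [cc_conj]; exact q.2.2.2⟩
      left_inv := fun p => Subtype.ext (Prod.ext rfl (by simp [mul_assoc]))
      right_inv := fun q => Prod.ext rfl (Subtype.ext (by simp [mul_assoc])) }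
  · have h1 := hy.nn_inverts p.2.1 p.2.2.1
    have h2 : hh ⟨p.1.1, p.2.1⟩ * t * (hh ⟨p.1.1, p.2.1⟩)⁻¹ = p.1.1 := hhh ⟨p.1.1, p.2.1⟩
    set h := hh ⟨p.1.1, p.2.1⟩
    rw [← h2] at h1
    calc t * (h⁻¹ * p.1.2 * h⁻¹⁻¹) * t⁻¹
        = h⁻¹ * ((h * t * h⁻¹) * p.1.2 * (h * t * h⁻¹)⁻¹) * h := by group
      _ = h⁻¹ * p.1.2⁻¹ * h := by rw [h1]
      _ = _ := by group
  · show orderOf (hh q.1 * q.2.1 * (hh q.1)⁻¹ * q.1.1) = 2
    rw [← hhh q.1, show hh q.1 * q.2.1 * (hh q.1)⁻¹ * (hh q.1 * t * (hh q.1)⁻¹) =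
      hh q.1 * (q.2.1 * t) * (hh q.1)⁻¹ by group, orderOf_conj]
    have h1 := hy.orderOf_t_mul_of_inv q.2.2.1.2 (hy.sr_ne_t q.2.2.1)
    rw [show q.2.1 * t = t⁻¹ * (t * q.2.1) * t⁻¹⁻¹ by group, orderOf_conj]
    exact h1

/-- The subgroup of `C(t)` normalizing the centralizer of `z`. -/
theorem norm_mem_K {z w : G} (hz : SR t K z) (hwt : w * t = t * w)
    (hn : (w * z * w⁻¹) * z = z * (w * z * w⁻¹)) : w ∈ K := by
  by_contra hw
  -- an involution centralizing `t` and normalizing acts as inversion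
  have hw2 := hy.invol_of_not_mem hwt hw
  set C := Subgroup.centralizer ({z} : Set G)
  have hz1 := hy.sr_ne_one hz
  have hCw : Subgroup.centralizer ({w * z * w⁻¹} : Set G) = C :=
    hy.cent_eq hz hn (conj_ne' hz1)
  have hmem : ∀ x : C, w * (x : G) * w⁻¹ ∈ C := fun x => by
    refine le_of_eq hCw (Subgroup.mem_centralizer_singleton_iff.mpr ?_)
    have hx := Subgroup.mem_centralizer_singleton_iff.mp x.2
    calc w * (x : G) * w⁻¹ * (w * z * w⁻¹) = w * ((x : G) * z) * w⁻¹ := by group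
      _ = w * (z * (x : G)) * w⁻¹ := by rw [hx]
      _ = _ := by group
  let φ : C →* C :=
    { toFun := fun x => ⟨w * (x : G) * w⁻¹, hmem x⟩
      map_one' := Subtype.ext (by simp)
      map_mul' := fun a b => Subtype.ext (by push_cast; group) }
  have hfix : ∀ x, φ x = x → x = 1 := fun x hx => by
    refine Subtype.ext (by_contra fun h1 => ?_)
    exact hy.notInK_cent hz.1 h1 (Subgroup.mem_centralizer_singleton_iff.mp x.2)
      (hy.inK_comm_invol hw2 (mul_inv_eq_iff_eq_mul.mp (congrArg Subtype.val hx)).symm)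
  have hinv : Function.Involutive φ := fun x => Subtype.ext (by
    show w * (w * (x : G) * w⁻¹) * w⁻¹ = x
    rw [inv_two hw2]
    calc w * (w * (x : G) * w) * w = (w * w) * x * (w * w) := by group
      _ = x := by rw [mul_self_two hw2]; group)
  have h2 := MonoidHom.FixedPointFree.coe_eq_inv_of_involutive (φ := φ) hfix hinv
  have h3 : w * z * w⁻¹ = z⁻¹ := by
    have := congrFun h2 ⟨z, Subgroup.mem_centralizer_singleton_iff.mpr rfl⟩
    simpa [φ] using congrArg Subtype.val this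
  have hcomm : (w⁻¹ * t) * z = z * (w⁻¹ * t) := by
    have h4 : t * z = z⁻¹ * t := mul_inv_eq_iff_eq_mul.mp hz.2
    have h5 : w⁻¹ * z⁻¹ = z * w⁻¹ := by rw [← h3]; group
    rw [mul_assoc, h4, ← mul_assoc, h5, mul_assoc]
  have h6 : w⁻¹ * t = 1 := hy.fpf hz hcomm (by
    rw [inv_two hw2]
    calc w * t * t = t * w * t := by rw [hwt]
      _ = t * (w * t) := mul_assoc _ _ _)
  exact hw (by rw [inv_mul_eq_one.mp h6]; exact hy.htK)

/-- The centralizer of an element inverted by `t`, as the fibre of a map. -/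
theorem LL_eq (a : ℕ) : LL t K a =
    Nat.card {A : Subgroup G // ∃ z, SR t K z ∧ cc z = a ∧
      A = Subgroup.centralizer ({z} : Set G)} * (a - 1) := by
  classical
  set S := {A : Subgroup G // ∃ z, SR t K z ∧ cc z = a ∧ A = Subgroup.centralizer ({z} : Set G)}
  haveI : Finite S := Subtype.finite
  haveI := Fintype.ofFinite S
  let f : {z : G // SR t K z ∧ cc z = a} → S := fun z =>
    ⟨Subgroup.centralizer ({z.1} : Set G), z.1, z.2.1, z.2.2, rfl⟩
  rw [LL, Nat.card_congr (Equiv.sigmaFiberEquiv f).symm, Nat.card_sigma]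
  have key : ∀ A : S, Nat.card {z // f z = A} = a - 1 := by
    rintro ⟨A, w, hw, hwa, rfl⟩
    have e : {z // f z = ⟨_, w, hw, hwa, rfl⟩} ≃
        {y : Subgroup.centralizer ({w} : Set G) // y ≠ 1} :=
      { toFun := fun z => ⟨⟨z.1.1, by
            have h : Subgroup.centralizer ({z.1.1} : Set G) = Subgroup.centralizer ({w} : Set G) :=
              congrArg Subtype.val z.2
            exact le_of_eq h (Subgroup.mem_centralizer_singleton_iff.mpr rfl)⟩,
          fun e => hy.sr_ne_one z.1.2.1 (congrArg Subtype.val e)⟩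
        invFun := fun y => ⟨⟨y.1.1, hy.sr_cent hw (Subgroup.mem_centralizer_singleton_iff.mp y.1.2)
              (fun e => y.2 (Subtype.ext e)), by
            rw [cc, hy.cent_eq hw (Subgroup.mem_centralizer_singleton_iff.mp y.1.2)
              (fun e => y.2 (Subtype.ext e))]
            exact hwa⟩,
          Subtype.ext (hy.cent_eq hw (Subgroup.mem_centralizer_singleton_iff.mp y.1.2)
              (fun e => y.2 (Subtype.ext e)))⟩
        left_inv := fun z => rfl
        right_inv := fun y => rfl }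
    rw [Nat.card_congr e]
    haveI := Fintype.ofFinite (Subgroup.centralizer ({w} : Set G))
    rw [← hwa, cc]
    simp [Nat.card_eq_fintype_card, Fintype.card_subtype_compl]
  simp [key, Nat.card_eq_fintype_card]

theorem exists_norm_index {z : G} (hz : SR t K z) :
    ∃ W : Subgroup G, (∀ w : G, w ∈ W ↔ w ∈ K ∧ (w * z * w⁻¹) * z = z * (w * z * w⁻¹)) := by
  have hz1 := hy.sr_ne_one hz
  have hEq : ∀ w : G, w ∈ K → ((w * z * w⁻¹) * z = z * (w * z * w⁻¹) ↔
      w ∈ Subgroup.normalizer ((Subgroup.centralizer ({z} : Set G) : Subgroup G) : Set G)) := by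
    intro w hwK
    constructor
    · intro h
      have hC := hy.cent_eq hz h (conj_ne' hz1)
      rw [Subgroup.mem_normalizer_iff]
      intro x
      rw [Subgroup.mem_centralizer_singleton_iff]
      conv_rhs => rw [← hC, Subgroup.mem_centralizer_singleton_iff]
      rw [show w * x * w⁻¹ * (w * z * w⁻¹) = w * (x * z) * w⁻¹ by group,
        show w * z * w⁻¹ * (w * x * w⁻¹) = w * (z * x) * w⁻¹ by group, mul_left_inj,
        mul_right_inj]
    · intro h
      exact Subgroup.mem_centralizer_singleton_iff.mp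
        ((Subgroup.mem_normalizer_iff.mp h z).mp (Subgroup.mem_centralizer_singleton_iff.mpr rfl))
  exact ⟨K ⊓ Subgroup.normalizer ((Subgroup.centralizer ({z} : Set G) : Subgroup G) : Set G),
    fun w => ⟨fun h => ⟨h.1, (hEq w h.1).mpr h.2⟩, fun h => ⟨h.1, (hEq w h.1).mp h.2⟩⟩⟩

end Hyp

end Cfsg.Agent.BSW
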