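import Mathlib
import Cfsg.Agent.Lib.Recog.BSW.Real

/-!
# Brauer–Suzuki–Wall: the action of `C(t)` on the centralizers of inverted elements
-/

set_option autoImplicit false
set_option linter.all false

namespace Cfsg.Agent.BSW

theorem card_dvd_of_free {H X : Type*} [Group H] [Finite H] [Finite X] [MulAction H X]
    (h : ∀ (g : H) (x : X), g • x = x → g = 1) : Nat.card H ∣ Nat.card X := by
  refine ⟨Nat.card (MulAction.orbitRel.Quotient H X), ?_⟩
  rw [mul_comm, ← Nat.card_prod]
  refine (Nat.card_congr ((MulAction.sigmaFixedByEquivOrbitsProdGroup H X).symm.trans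
    { toFun := fun z => z.2.1
      invFun := fun x => ⟨1, x, one_smul H x⟩
      left_inv := ?_
      right_inv := fun x => rfl })).symm
  rintro ⟨g, x, hx⟩
  obtain rfl := h g x hx
  rfl

variable {G : Type*} [Group G] [Finite G] {t : G} {K : Subgroup G} {s : G}

namespace Hyp

variable (hy : Hyp t K s)
include hy

theorem t_mem_norm {z : G} (hz : SR t K z) : (t * z * t⁻¹) * z = z * (t * z * t⁻¹) := by
  rw [hz.2, inv_mul_cancel, mul_inv_cancel]

theorem norm_smul {z w y : G} (hz : SR t K z) (hwn : (w * z * w⁻¹) * z = z * (w * z * w⁻¹))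
    (hyz : y * z = z * y) : (w * y * w⁻¹) * z = z * (w * y * w⁻¹) := by
  have hC := hy.cent_eq hz hwn (conj_ne' (hy.sr_ne_one hz))
  refine Subgroup.mem_centralizer_singleton_iff.mp (le_of_eq hC
    (Subgroup.mem_centralizer_singleton_iff.mpr ?_))
  calc w * y * w⁻¹ * (w * z * w⁻¹) = w * (y * z) * w⁻¹ := by group
    _ = w * (z * y) * w⁻¹ := by rw [hyz]
    _ = _ := by group

/-- The order of the part of `K` normalizing `C(z)` divides `|C(z)| - 1`. -/
theorem w_dvd {z : G} (hz : SR t K z) {W : Subgroup G}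
    (hW : ∀ w : G, w ∈ W ↔ w ∈ K ∧ (w * z * w⁻¹) * z = z * (w * z * w⁻¹)) :
    Nat.card W ∣ cc z - 1 := by
  classical
  set C := Subgroup.centralizer ({z} : Set G)
  let X := {y : C // y ≠ 1}
  letI : SMul W X := ⟨fun w y => ⟨⟨(w : G) * (y.1 : G) * (w : G)⁻¹,
      Subgroup.mem_centralizer_singleton_iff.mpr (hy.norm_smul hz ((hW w).mp w.2).2
        (Subgroup.mem_centralizer_singleton_iff.mp y.1.2))⟩,
    fun e => conj_ne' (fun e' => y.2 (Subtype.ext e')) (congrArg Subtype.val e)⟩⟩
  letI : MulAction W X :=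
    { one_smul := fun y => Subtype.ext (Subtype.ext
        (show ((1 : W) : G) * (y.1 : G) * ((1 : W) : G)⁻¹ = (y.1 : G) by simp))
      mul_smul := fun a b y => Subtype.ext (Subtype.ext
        (show ((a * b : W) : G) * (y.1 : G) * ((a * b : W) : G)⁻¹ =
          (a : G) * ((b : G) * (y.1 : G) * (b : G)⁻¹) * (a : G)⁻¹ by push_cast; group)) }
  have hdvd := card_dvd_of_free (H := W) (X := X) (fun w y e => by
    by_contra h1
    have hw1 : (w : G) ≠ 1 := fun e' => h1 (Subtype.ext e')
    have e' : (w : G) * (y.1 : G) * (w : G)⁻¹ = y.1 := congrArg (fun v : X => (v.1 : G)) e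
    have hy1 : (y.1 : G) ≠ 1 := fun e'' => y.2 (Subtype.ext e'')
    exact hy.notInK_cent hz.1 hy1 (Subgroup.mem_centralizer_singleton_iff.mp y.1.2)
      (hy.inK_comm hw1 (inK_of_mem ((hW w).mp w.2).1)
        (mul_inv_eq_iff_eq_mul.mp e').symm))
  haveI := Fintype.ofFinite C
  have e : Nat.card X = cc z - 1 := by
    simp only [X, cc]
    simp [Nat.card_eq_fintype_card, Fintype.card_subtype_compl, C]
  rwa [e] at hdvd

/-- The conjugates of `C(z)` under `C(t)` lie among the inverted elements. -/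
theorem orbit_le {z : G} (hz : SR t K z) {W : Subgroup G}
    (hW : ∀ w : G, w ∈ W ↔ w ∈ K ∧ (w * z * w⁻¹) * z = z * (w * z * w⁻¹)) :
    2 * Nat.card K * (cc z - 1) ≤ Nat.card W * LL t K (cc z) := by
  classical
  set H := Subgroup.centralizer ({t} : Set G) with hH
  set C := Subgroup.centralizer ({z} : Set G)
  have hWH : W ≤ H := fun w hw => Subgroup.mem_centralizer_singleton_iff.mpr
    (hy.K_comm_t ((hW w).mp hw).1)
  haveI := Fintype.ofFinite C
  have e : Nat.card {y : C // y ≠ 1} = cc z - 1 := by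
    simp [cc, Nat.card_eq_fintype_card, Fintype.card_subtype_compl, C]
  let f : (H ⧸ W.subgroupOf H) × {y : C // y ≠ 1} → {x : G // SR t K x ∧ cc x = cc z} := fun p =>
    ⟨(p.1.out : G) * (p.2.1 : G) * (p.1.out : G)⁻¹,
      hy.sr_conj (Subgroup.mem_centralizer_singleton_iff.mp p.1.out.2)
        (hy.sr_cent hz (Subgroup.mem_centralizer_singleton_iff.mp p.2.1.2)
          (fun e => p.2.2 (Subtype.ext e))), by
      rw [cc_conj, cc, hy.cent_eq hz (Subgroup.mem_centralizer_singleton_iff.mp p.2.1.2)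
          (fun e => p.2.2 (Subtype.ext e))]
      rfl⟩
  have hf : Function.Injective f := by
    rintro ⟨a, y, hy1⟩ ⟨b, y', hy1'⟩ h
    have h' : (a.out : G) * (y : G) * (a.out : G)⁻¹ = (b.out : G) * (y' : G) * (b.out : G)⁻¹ :=
      congrArg Subtype.val h
    set d := (b.out : G)⁻¹ * (a.out : G) with hd
    have hd1 : d * (y : G) * d⁻¹ = (y' : G) := by
      calc d * (y : G) * d⁻¹ = (b.out : G)⁻¹ * ((a.out : G) * (y : G) * (a.out : G)⁻¹) * (b.out : G) := by
            rw [hd]; group
        _ = _ := by rw [h']; group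
    have hyz := Subgroup.mem_centralizer_singleton_iff.mp y.2
    have hy'z := Subgroup.mem_centralizer_singleton_iff.mp y'.2
    have hdz : (d * z * d⁻¹) * z = z * (d * z * d⁻¹) := by
      refine hy.comm_cent (hy.sr_cent hz hy'z (fun e => hy1' (Subtype.ext e))) ?_ ?_
      · rw [← hd1]
        calc d * z * d⁻¹ * (d * (y : G) * d⁻¹) = d * (z * (y : G)) * d⁻¹ := by group
          _ = d * ((y : G) * z) * d⁻¹ := by rw [hyz]
          _ = _ := by group
      · exact hy'z.symm
    have hdH : d ∈ H := H.mul_mem (H.inv_mem b.out.2) a.out.2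
    have hdW : d ∈ W := (hW d).mpr
      ⟨hy.norm_mem_K hz (Subgroup.mem_centralizer_singleton_iff.mp hdH) hdz, hdz⟩
    have hab : b = a := by
      rw [← a.out_eq, ← b.out_eq]
      exact QuotientGroup.eq.mpr (Subgroup.mem_subgroupOf.mpr hdW)
    subst hab
    have : (y : G) = y' := by
      rw [← hd1, hd, inv_mul_cancel, one_mul, inv_one, mul_one]
    obtain rfl : y = y' := Subtype.ext this
    rfl
  have h1 := Nat.card_le_card_of_injective f hf
  rw [Nat.card_prod, e] at h1
  have h2 := (W.subgroupOf H).index_mul_card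
  rw [Nat.card_congr (Subgroup.subgroupOfEquivOfLe hWH).toEquiv, hy.card_cent] at h2
  rw [← h2]
  calc (W.subgroupOf H).index * Nat.card W * (cc z - 1)
      = Nat.card W * ((W.subgroupOf H).index * (cc z - 1)) := by ring
    _ ≤ _ := Nat.mul_le_mul_left _ h1

end Hyp

end Cfsg.Agent.BSW
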