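import Mathlib
import Cfsg.Agent.Lib.Recog.BSW.Orbit

/-!
# Brauer–Suzuki–Wall: counting, and the case `|K| = 2`
-/

set_option autoImplicit false
set_option linter.all false

namespace Cfsg.Agent.BSW

variable {G : Type*} [Group G] [Finite G]

/-- The first outcome of the counting. -/
def PlusCase (t : G) (K : Subgroup G) : Prop :=
  Nat.card G = 2 * Nat.card K * (2 * Nat.card K + 1) * (Nat.card K + 1) ∧
  Nat.card {z : G // SR t K z} = Nat.card K * (Nat.card K + 4) ∧
  ∀ g : G, ¬ InK K g → nn g ≠ 0 ∧ Nat.card K ∣ cc g - 1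

/-- The second outcome of the counting. -/
def MinusCase (t : G) (K : Subgroup G) : Prop :=
  Nat.card G = 2 * Nat.card K * (2 * Nat.card K - 1) * (Nat.card K - 1) ∧
  Nat.card {z : G // SR t K z} = Nat.card K * (Nat.card K - 2) ∧
  ∀ g : G, ¬ InK K g → (Nat.card K - 1) ∣ nn g

variable {t : G} {K : Subgroup G} {s : G}

theorem sum_LL (S : Finset ℕ) :
    ∑ a ∈ S, LL t K a = Nat.card {z : G // SR t K z ∧ cc z ∈ S} := by
  classical
  haveI := Fintype.ofFinite G
  simp only [LL, Nat.card_eq_fintype_card, Fintype.card_subtype]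
  rw [Finset.card_eq_sum_card_fiberwise (f := fun z => cc z) (t := S)
    (fun z hz => (Finset.mem_filter.mp hz).2.2)]
  refine Finset.sum_congr rfl fun a ha => congrArg Finset.card ?_
  ext z
  simp only [Finset.mem_filter, Finset.mem_univ, true_and]
  exact ⟨fun h => ⟨⟨h.1, h.2 ▸ ha⟩, h.2⟩, fun h => ⟨h.1.1, h.2⟩⟩

theorem sum_NN (S : Finset ℕ) :
    ∑ a ∈ S, NN K a = Nat.card {g : G // ¬ InK K g ∧ nn g ≠ 0 ∧ cc g ∈ S} := by
  classical
  haveI := Fintype.ofFinite G
  simp only [NN, Nat.card_eq_fintype_card, Fintype.card_subtype]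
  rw [Finset.card_eq_sum_card_fiberwise (f := fun z => cc z) (t := S)
    (fun z hz => (Finset.mem_filter.mp hz).2.2.2)]
  refine Finset.sum_congr rfl fun a ha => congrArg Finset.card ?_
  ext z
  simp only [Finset.mem_filter, Finset.mem_univ, true_and]
  exact ⟨fun h => ⟨⟨h.1, h.2.1, h.2.2 ▸ ha⟩, h.2.2⟩, fun h => ⟨h.1.1, h.1.2.1, h.2⟩⟩

theorem card_le_of_imp {p q : G → Prop} (h : ∀ g, p g → q g) :
    Nat.card {g // p g} ≤ Nat.card {g // q g} :=
  Nat.card_le_card_of_injective (fun g => (⟨g.1, h g.1 g.2⟩ : {g // q g}))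
    fun a b e => Subtype.ext (congrArg (fun v : {g // q g} => v.1) e)

theorem eq_of_card_eq {p q : G → Prop} (h : ∀ g, p g → q g)
    (hc : Nat.card {g // q g} ≤ Nat.card {g // p g}) {g : G} (hg : q g) : p g := by
  classical
  haveI := Fintype.ofFinite G
  simp only [Nat.card_eq_fintype_card, Fintype.card_subtype] at hc
  have e := Finset.eq_of_subset_of_card_le
    (fun x hx => Finset.mem_filter.mpr ⟨Finset.mem_univ x, h x (Finset.mem_filter.mp hx).2⟩) hc
  have : g ∈ Finset.univ.filter q := Finset.mem_filter.mpr ⟨Finset.mem_univ g, hg⟩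
  rw [← e] at this
  exact (Finset.mem_filter.mp this).2

theorem cc_dvd (g : G) : cc g ∣ Nat.card G := Subgroup.card_subgroup_dvd_card _

namespace Hyp

variable (hy : Hyp t K s)
include hy

theorem card_outside :
    Nat.card {g : G // ¬ InK K g} + 1 + Nat.card {g : G // g ≠ 1 ∧ InK K g} = Nat.card G := by
  classical
  haveI := Fintype.ofFinite G
  have h1 := Finset.card_filter_add_card_filter_not (s := (Finset.univ : Finset G)) (fun g => InK K g)
  have h2 : (Finset.univ.filter fun g : G => InK K g) =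
      insert 1 (Finset.univ.filter fun g : G => g ≠ 1 ∧ InK K g) := by
    ext g
    simp only [Finset.mem_filter, Finset.mem_univ, true_and, Finset.mem_insert]
    constructor
    · intro h
      by_cases e : g = 1
      exacts [Or.inl e, Or.inr ⟨e, h⟩]
    · rintro (rfl | h)
      exacts [inK_one K, h.2]
  rw [h2, Finset.card_insert_of_notMem (by simp)] at h1
  simp only [Nat.card_eq_fintype_card, Fintype.card_subtype]
  rw [Finset.card_univ] at h1
  omega

theorem sr_card : Nat.card {z : G // SR t K z} + 1 + Nat.card K + Nat.card K * (Nat.card K - 2) =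
    Nat.card {y : G // orderOf y = 2} := by
  rw [hy.card_invol, hy.out_equiv]

theorem even_subgroups (hk : Nat.card K = 2) (a : ℕ) :
    2 ∣ Nat.card {A : Subgroup G // ∃ z, SR t K z ∧ cc z = a ∧
      A = Subgroup.centralizer ({z} : Set G)} := by
  classical
  set S := {A : Subgroup G // ∃ z, SR t K z ∧ cc z = a ∧ A = Subgroup.centralizer ({z} : Set G)}
  haveI : Finite S := Subtype.finite
  have hst : s * t = t * s := hy.hst
  have hss : s * s = 1 := mul_self_two hy.hs
  have hcent : ∀ z : G, Subgroup.centralizer ({s * z * s⁻¹} : Set G) =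
      (Subgroup.centralizer ({z} : Set G)).map (MulAut.conj s).toMonoidHom := by
    intro z
    ext x
    rw [Subgroup.mem_map, Subgroup.mem_centralizer_singleton_iff]
    constructor
    · intro h
      refine ⟨s⁻¹ * x * s, Subgroup.mem_centralizer_singleton_iff.mpr ?_, ?_⟩
      · calc s⁻¹ * x * s * z = s⁻¹ * (x * (s * z * s⁻¹)) * s := by group
          _ = s⁻¹ * ((s * z * s⁻¹) * x) * s := by rw [h]
          _ = _ := by group
      · show s * (s⁻¹ * x * s) * s⁻¹ = x
        group
    · rintro ⟨y, hy', rfl⟩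
      have h := Subgroup.mem_centralizer_singleton_iff.mp hy'
      show s * y * s⁻¹ * (s * z * s⁻¹) = s * z * s⁻¹ * (s * y * s⁻¹)
      calc s * y * s⁻¹ * (s * z * s⁻¹) = s * (y * z) * s⁻¹ := by group
        _ = s * (z * y) * s⁻¹ := by rw [h]
        _ = _ := by group
  let σ : S → S := fun A => ⟨A.1.map (MulAut.conj s).toMonoidHom, by
    obtain ⟨z, h1, h2, h3⟩ := A.2
    exact ⟨s * z * s⁻¹, hy.sr_conj hst h1, (cc_conj s z).trans h2, by rw [h3, hcent]⟩⟩
  have hσ : Function.Involutive σ := fun A => Subtype.ext (by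
    show (A.1.map (MulAut.conj s).toMonoidHom).map (MulAut.conj s).toMonoidHom = A.1
    rw [Subgroup.map_map]
    convert Subgroup.map_id A.1
    ext x
    show s * (s * x * s⁻¹) * s⁻¹ = x
    rw [inv_two hy.hs]
    calc s * (s * x * s) * s = (s * s) * x * (s * s) := by group
      _ = x := by rw [hss]; group)
  have hfix : ∀ A, σ A ≠ A := by
    rintro ⟨A, z, h1, h2, rfl⟩ e
    have e' : Subgroup.centralizer ({s * z * s⁻¹} : Set G) = Subgroup.centralizer ({z} : Set G) := by
      rw [hcent]; exact congrArg Subtype.val e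
    exact hy.hsK (hy.norm_mem_K h1 hst (Subgroup.mem_centralizer_singleton_iff.mp
      (le_of_eq e' (Subgroup.mem_centralizer_singleton_iff.mpr rfl))))
  haveI := Fintype.ofFinite S
  rw [Nat.card_eq_fintype_card, ← ZMod.natCast_eq_zero_iff_even.trans even_iff_two_dvd |>.eq,
    ← Finset.card_univ, Finset.cast_card]
  exact Finset.sum_involution (fun A _ => σ A) (fun A _ => by decide) (fun A _ _ => hfix A)
    (fun A _ => Finset.mem_univ _) (fun A _ => hσ A)

/-- The case of an elementary four-group as involution centralizer. -/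
theorem cases_two (hk : Nat.card K = 2) : PlusCase t K ∨ MinusCase t K := by
  classical
  have hG := hy.card_G
  have hsr := hy.sr_card
  have hout := hy.card_outside
  have hin := hy.card_inK
  rw [hk] at hG hsr hin
  set I := Nat.card {y : G // orderOf y = 2}
  set NO := Nat.card {g : G // ¬ InK K g}
  simp only [hk, Nat.sub_self, Nat.mul_zero, Nat.add_zero] at hsr
  have hNO : NO + 1 = 3 * I := by omega
  -- the data attached to a centralizer order
  have hdata : ∀ a, LL t K a ≠ 0 →
      (∃ i, 0 < i ∧ LL t K a = 2 * i * (a - 1) ∧ 4 * I * i ≤ 3 * NN K a) ∧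
        3 ≤ a ∧ a % 2 = 1 ∧ a ∣ I := by
    intro a ha
    obtain ⟨⟨z, hz, hza⟩⟩ := (Nat.card_ne_zero.mp ha).1
    have h3 : 3 ≤ a := by
      have h1 : 1 < cc z := by
        have hnb : Subgroup.centralizer ({z} : Set G) ≠ ⊥ := fun e => hy.sr_ne_one hz
          (Subgroup.mem_bot.mp (le_of_eq e (Subgroup.mem_centralizer_singleton_iff.mpr rfl)))
        exact (Subgroup.one_lt_card_iff_ne_bot _).mpr hnb
      have h2 := hy.odd_cc hz.1
      rw [Nat.odd_iff] at h2
      omega
    have hodd : a % 2 = 1 := hza ▸ Nat.odd_iff.mp (hy.odd_cc hz.1)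
    obtain ⟨i, hi⟩ := hy.even_subgroups hk a
    have hLL := hy.LL_eq (t := t) (K := K) a
    rw [hi] at hLL
    have hi0 : 0 < i := Nat.pos_of_ne_zero fun e => ha (by rw [hLL, e]; simp)
    refine ⟨⟨i, hi0, hLL, ?_⟩, h3, hodd, ?_⟩
    · have hm := hy.mul_NN a
      rw [hLL] at hm
      have key : a * (4 * I * i) ≤ a * (3 * NN K a) := by
        obtain ⟨b, rfl⟩ : ∃ b, a = b + 3 := ⟨a - 3, by omega⟩
        rw [show b + 3 - 1 = b + 2 by omega] at hm
        change _ = I * _ at hm
        nlinarith [Nat.zero_le (I * i * b)]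
      exact Nat.le_of_mul_le_mul_left key (by omega)
    · have h1 := hza ▸ cc_dvd z
      rw [hG] at h1
      have hc : Nat.Coprime a (2 * 2) := by
        have h2 : Nat.Coprime 2 a := (Nat.prime_two.coprime_iff_not_dvd).mpr (by omega)
        exact Nat.Coprime.mul_right h2.symm h2.symm
      exact hc.dvd_of_dvd_mul_left h1
  have hNNle : ∀ S : Finset ℕ, ∑ a ∈ S, NN K a ≤ NO := fun S => by
    rw [sum_NN]; exact card_le_of_imp fun g h => h.1
  have hI0 : 0 < I := by omega
  by_cases h0 : Nat.card {z : G // SR t K z} = 0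
  · refine Or.inr ⟨?_, ?_, fun g _ => ?_⟩
    · rw [hk, hG]; omega
    · rw [hk, h0]
    · rw [hk]; exact one_dvd _
  obtain ⟨⟨z₁, hz₁⟩⟩ := (Nat.card_ne_zero.mp h0).1
  have ha₁ : LL t K (cc z₁) ≠ 0 := Nat.card_ne_zero.mpr ⟨⟨⟨z₁, hz₁, rfl⟩⟩, inferInstance⟩
  obtain ⟨⟨i, hi0, hiL, hiN⟩, ha3, ha2, haI⟩ := hdata _ ha₁
  set a := cc z₁
  by_cases hall : ∀ z : G, SR t K z → cc z = a
  · exfalso
    have hL : Nat.card {z : G // SR t K z} = LL t K a :=
      Nat.card_congr (Equiv.subtypeEquivRight fun z => ⟨fun h => ⟨h, hall z h⟩, fun h => h.1⟩)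
    have hle := hNNle {a}
    rw [Finset.sum_singleton] at hle
    have hi2 : i ≤ 2 := by
      by_contra hh
      have : 4 * I * 3 ≤ 4 * I * i := Nat.mul_le_mul_left _ (by omega)
      omega
    obtain ⟨c, hc⟩ := haI
    have e : a * c = 3 + 2 * i * (a - 1) := by rw [← hc, ← hsr, hL, hiL]; omega
    interval_cases i
    · have h1 : a ∣ 1 := by
        have e2 : a * c = 1 + a * 2 := by omega
        exact (Nat.dvd_add_left (Dvd.intro 2 rfl)).mp (e2 ▸ Dvd.intro c rfl)
      have := Nat.le_of_dvd one_pos h1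
      omega
    · have h1 : a ∣ 1 := by
        have e2 : a * c + 1 = a * 4 := by omega
        exact (Nat.dvd_add_right (Dvd.intro c rfl)).mp (e2 ▸ Dvd.intro 4 rfl)
      have := Nat.le_of_dvd one_pos h1
      omega
  · push Not at hall
    obtain ⟨z₂, hz₂, hne⟩ := hall
    have ha₂ : LL t K (cc z₂) ≠ 0 := Nat.card_ne_zero.mpr ⟨⟨⟨z₂, hz₂, rfl⟩⟩, inferInstance⟩
    obtain ⟨⟨j, hj0, hjL, hjN⟩, hb3, hb2, hbI⟩ := hdata _ ha₂
    set b := cc z₂
    have hle := hNNle {a, b}
    rw [Finset.sum_pair hne.symm] at hle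
    have hij : i = 1 ∧ j = 1 := by
      have h4 : 4 * I * (i + j) ≤ 3 * NO := by rw [Nat.mul_add]; omega
      have h5 : i + j ≤ 2 := by
        by_contra hh
        have : 4 * I * 3 ≤ 4 * I * (i + j) := Nat.mul_le_mul_left _ (by omega)
        omega
      omega
    obtain ⟨rfl, rfl⟩ := hij
    have hL : Nat.card {z : G // SR t K z} = LL t K a + LL t K b := by
      rw [← Finset.sum_pair hne.symm, sum_LL]
      refine Nat.card_congr (Equiv.subtypeEquivRight fun z => ⟨fun h => ⟨h, ?_⟩, fun h => h.1⟩)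
      by_contra hz
      simp only [Finset.mem_insert, Finset.mem_singleton, not_or] at hz
      have hc : LL t K (cc z) ≠ 0 := Nat.card_ne_zero.mpr ⟨⟨⟨z, h, rfl⟩⟩, inferInstance⟩
      obtain ⟨⟨l, hl0, -, hlN⟩, -⟩ := hdata _ hc
      have hle3 := hNNle {cc z, a, b}
      rw [Finset.sum_insert (by simp [hz.1, hz.2]), Finset.sum_pair hne.symm] at hle3
      have : 4 * I * 1 ≤ 4 * I * l := Nat.mul_le_mul_left _ (by omega)
      omega
    have hI : I + 1 = 2 * a + 2 * b := by omega
    obtain ⟨c, hc⟩ := haI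
    obtain ⟨d, hd⟩ := hbI
    -- the two orders are three and five
    have hab : (a = 3 ∧ b = 5) ∨ (a = 5 ∧ b = 3) := by
      have key : ∀ a b c d : ℕ, 3 ≤ a → a < b → I + 1 = 2 * a + 2 * b → I = a * c → I = b * d →
          a = 3 ∧ b = 5 := by
        intro a b c d h1 h2 h3 h4 h5
        have hd3 : d = 3 := by
          have : b * 2 < b * d + 0 := by omega
          have hd2 : 2 < d := Nat.lt_of_mul_lt_mul_left (a := b) (by omega)
          have : b * d < b * 4 := by omega
          have hd4 : d < 4 := Nat.lt_of_mul_lt_mul_left (a := b) (by omega)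
          omega
        subst hd3
        have hb : b = 2 * a - 1 := by omega
        have hc' : a * c + 3 = a * 6 := by omega
        have ha : a ∣ 3 := (Nat.dvd_add_right (Dvd.intro c rfl)).mp (hc' ▸ Dvd.intro 6 rfl)
        have := Nat.le_of_dvd (by norm_num) ha
        omega
      rcases Nat.lt_or_gt_of_ne hne.symm with h | h
      · exact Or.inl (key a b c d ha3 h hI hc hd)
      · have := key b a d c hb3 h (by omega) hd hc
        exact Or.inr ⟨this.2, this.1⟩
    have hI15 : I = 15 := by omega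
    refine Or.inl ⟨?_, ?_, ?_⟩
    · rw [hk, hG, hI15]
    · rw [hk]; omega
    intro g hg
    have ha' := hy.mul_NN a
    have hb' := hy.mul_NN b
    rw [hiL] at ha'
    rw [hjL] at hb'
    have hcover : NO ≤ Nat.card {g : G // ¬ InK K g ∧ nn g ≠ 0 ∧ cc g ∈ ({a, b} : Finset ℕ)} := by
      rw [← sum_NN, Finset.sum_pair hne.symm]
      change _ = I * _ at ha'
      change _ = I * _ at hb'
      rw [hI15] at ha' hb'
      rcases hab with ⟨e1, e2⟩ | ⟨e1, e2⟩ <;> simp only [e1, e2] at ha' hb' ⊢ <;> omega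
    have h := eq_of_card_eq (p := fun g => ¬ InK K g ∧ nn g ≠ 0 ∧ cc g ∈ ({a, b} : Finset ℕ))
      (q := fun g => ¬ InK K g) (fun x hx => hx.1) hcover hg
    refine ⟨h.2.1, ?_⟩
    have h2 := hy.odd_cc hg
    rw [Nat.odd_iff] at h2
    rw [hk]
    omega

end Hyp

end Cfsg.Agent.BSW
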