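import Mathlib
import Cfsg.Agent.Lib.Recog.BSW.Two
import Cfsg.Agent.Lib.CT.Induced
import Cfsg.Agent.Lib.OddChar.Lattice
import Cfsg.Agent.Lib.ClassSum.Basic
import Cfsg.Agent.Lib.CT.Kernel

/-!
# Brauer–Suzuki–Wall: the induced generalized characters and the class constant
-/

set_option autoImplicit false
set_option linter.all false

namespace Cfsg.Agent.BSW

open scoped ComplexConjugate
open Cfsg Cfsg.Agent.OddChar

universe u

variable {G : Type u} [Group G] [Fintype G] {t : G} {K : Subgroup G} [Fintype K] {s : G}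

/-- The trivial character of `K`. -/
noncomputable def oneK (K : Subgroup G) [Fintype K] : IrrCharacter K :=
  ⟨fun _ => 1, CT.isIrrCharacter_one⟩

/-- The generalized character induced from `1 - φ`. -/
noncomputable def RR (φ : IrrCharacter K) : G → ℂ :=
  indFun K ((fun _ => (1 : ℂ)) - (φ : K → ℂ))

/-- The trivial character of `G`, as a function. -/
noncomputable def oneG (G : Type u) : G → ℂ := fun _ => 1

/-- The generalized character `RR φ - 1`. -/
noncomputable def RP (φ : IrrCharacter K) : G → ℂ := RR φ - oneG G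

/-- The functional `a ↦ a(g) conj(a(t)) / a(1)`, extended linearly from irreducible characters. -/
noncomputable def TT (t g : G) (a : G → ℂ) : ℂ :=
  ∑ ψ : IrrCharacter G, classInner a ψ * ((ψ : G → ℂ) g * conj ((ψ : G → ℂ) t) / (ψ : G → ℂ) 1)

/-- The class sum `∑ χ(g) |χ(t)|² / χ(1)`. -/
noncomputable def SS (t g : G) : ℂ :=
  ∑ ψ : IrrCharacter G, (ψ : G → ℂ) g * (ψ : G → ℂ) t * conj ((ψ : G → ℂ) t) / (ψ : G → ℂ) 1

theorem TT_add (g : G) (a b : G → ℂ) : TT t g (a + b) = TT t g a + TT t g b := by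
  simp [TT, CT.classInner_add_left, add_mul, Finset.sum_add_distrib]

theorem TT_signed (g : G) {a : G → ℂ} (ha : IsSigned a) :
    TT t g a = a g * conj (a t) / a 1 := by
  classical
  obtain ⟨χ, e, hχ, he, rfl⟩ := isSigned_exists ha
  rw [TT, Finset.sum_eq_single (⟨χ, hχ⟩ : IrrCharacter G)]
  · rw [CT.classInner_smul_left, CT.irr_inner_self hχ]
    rcases he with rfl | rfl <;> simp [div_neg, neg_div]
  · intro ψ _ hψ
    rw [CT.classInner_smul_left, CT.irr_inner_of_ne hχ ψ.2 (fun e' => hψ (Subtype.ext e'.symm))]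
    simp
  · simp

theorem oneG_signed : IsSigned (oneG G) := Or.inl CT.isIrrCharacter_one

theorem signed_one_int {a : G → ℂ} (ha : IsSigned a) : ∃ n : ℤ, a 1 = n ∧ n ≠ 0 := by
  obtain ⟨χ, e, hχ, he, rfl⟩ := isSigned_exists ha
  have hd := CT.deg_eq (CT.isCharacter_of_isIrr hχ)
  have hp := CT.deg_pos hχ
  rcases he with rfl | rfl
  · exact ⟨(CT.deg χ : ℤ), by simp [hd], by omega⟩
  · exact ⟨-(CT.deg χ : ℤ), by simp [hd], by omega⟩

theorem signed_isClassFunction {a : G → ℂ} (ha : IsSigned a) : IsClassFunction G a := by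
  obtain ⟨χ, e, hχ, he, rfl⟩ := isSigned_exists ha
  intro g x
  simp [CT.isClassFunction_of_isIrr hχ g x]

theorem signed_integral {a : G → ℂ} (ha : IsSigned a) (g : G) : IsIntegral ℤ (a g) := by
  rcases ha with h | h
  · exact CT.isIntegral_isCharacter (CT.isCharacter_of_isIrr h) g
  · simpa using (CT.isIntegral_isCharacter (CT.isCharacter_of_isIrr h) g).neg

namespace Hyp

variable (hy : Hyp t K s)
include hy

theorem comm_K (x y : K) : x * y = y * x := Subtype.ext (hy.comm _ x.2 _ y.2)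

theorem lin_one (φ : IrrCharacter K) : (φ : K → ℂ) 1 = 1 :=
  CT.irr_degree_one_of_comm hy.comm_K φ.2

theorem exists_hom (φ : IrrCharacter K) : ∃ l : K →* ℂˣ, ∀ x, (φ : K → ℂ) x = (l x : ℂ) := by
  obtain ⟨l, hl⟩ := CT.exists_hom_of_degree_one (CT.isCharacter_of_isIrr φ.2) (hy.lin_one φ)
  exact ⟨l, fun x => congrFun hl x⟩

theorem lin_mul (φ : IrrCharacter K) (x y : K) :
    (φ : K → ℂ) (x * y) = (φ : K → ℂ) x * (φ : K → ℂ) y := by
  obtain ⟨l, hl⟩ := hy.exists_hom φ
  simp [hl]

theorem lin_inv (φ : IrrCharacter K) (x : K) : (φ : K → ℂ) x⁻¹ = conj ((φ : K → ℂ) x) :=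
  CT.char_inv_eq_conj (CT.isCharacter_of_isIrr φ.2) x

theorem lin_norm (φ : IrrCharacter K) (x : K) : (φ : K → ℂ) x * conj ((φ : K → ℂ) x) = 1 := by
  rw [← hy.lin_inv, ← hy.lin_mul, mul_inv_cancel, hy.lin_one]

theorem exists_cj (φ : IrrCharacter K) :
    ∃ μ : IrrCharacter K, ∀ x, (μ : K → ℂ) x = conj ((φ : K → ℂ) x) := by
  obtain ⟨l, hl⟩ := hy.exists_hom φ
  let l' : K →* ℂˣ :=
    { toFun := fun x => (l x)⁻¹
      map_one' := by simp
      map_mul' := fun x y => by rw [map_mul, mul_inv] }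
  refine ⟨⟨fun x => (l' x : ℂ), CT.isIrrCharacter_lin l'⟩, fun x => ?_⟩
  rw [← hy.lin_inv, hl, map_inv]
  rfl

/-- The complex conjugate character. -/
noncomputable def _root_.Cfsg.Agent.BSW.cj (hy : Hyp t K s) (φ : IrrCharacter K) :
    IrrCharacter K := Classical.choose (hy.exists_cj φ)

theorem cj_apply (φ : IrrCharacter K) (x : K) :
    (cj hy φ : K → ℂ) x = conj ((φ : K → ℂ) x) := Classical.choose_spec (hy.exists_cj φ) x

theorem cj_cj (φ : IrrCharacter K) : cj hy (cj hy φ) = φ :=
  Subtype.ext (funext fun x => by rw [hy.cj_apply, hy.cj_apply, Complex.conj_conj])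

theorem cj_one : cj hy (oneK K) = oneK K :=
  Subtype.ext (funext fun x => by rw [hy.cj_apply]; simp [oneK])

theorem sum_zero {x : K} (hx : x ≠ 1) : ∑ φ : IrrCharacter K, (φ : K → ℂ) x = 0 := by
  classical
  have h := CT.column_orthogonality x (1 : K)
  rw [if_neg (fun e => hx (isConj_one_left.mp e))] at h
  simpa [hy.lin_one] using h

theorem card_irr : Fintype.card (IrrCharacter K) = Nat.card K := by
  rw [← Nat.card_eq_fintype_card, CT.card_irr_eq_card_conjClasses]
  refine (Nat.card_congr (Equiv.ofBijective ConjClasses.mk ⟨?_, ConjClasses.mk_surjective⟩)).symm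
  intro a b h
  obtain ⟨c, hc⟩ := isConj_iff.mp (ConjClasses.mk_eq_mk_iff_isConj.mp h)
  rw [hy.comm_K c a, mul_inv_cancel_right] at hc
  exact hc

theorem indFun_K (f : K → ℂ) {x : K} (hx : x ≠ 1) :
    indFun K f x = f x + f x⁻¹ := by
  classical
  have hx1 : (x : G) ≠ 1 := fun e => hx (Subtype.ext e)
  have h : ∀ g : G, extendByZero K f (g⁻¹ * x * g) =
      (if g ∈ K then f x else 0) + (if g * t = t * g ∧ g ∉ K then f x⁻¹ else 0) := by
    intro g
    by_cases hg : g ∈ K
    · rw [if_pos hg, if_neg (fun h => h.2 hg), add_zero]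
      have : g⁻¹ * x * g = x := by
        rw [hy.comm _ (K.inv_mem hg) _ x.2, inv_mul_cancel_right]
      rw [this, CT.extendByZero_coe]
    · rw [if_neg hg, zero_add]
      have hgi : g⁻¹ ∉ K := fun h => hg (inv_mem_iff.mp h)
      by_cases hc : g * t = t * g
      · rw [if_pos ⟨hc, hg⟩]
        have hci : g⁻¹ * t = t * g⁻¹ := by
          rw [inv_mul_eq_iff_eq_mul, ← mul_assoc, hc, mul_inv_cancel_right]
        have e := hy.conj_inv hci hgi x.2
        rw [inv_inv] at e
        rw [e]
        exact CT.extendByZero_coe K f x⁻¹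
      · rw [if_neg (fun h => hc h.1)]
        refine CT.extendByZero_not_mem K f fun hm => hc ?_
        have h2 := hy.hTI g⁻¹ x x.2 hx1 (by simpa using hm)
        calc g * t = g * (t * g⁻¹) * g := by group
          _ = g * (g⁻¹ * t) * g := by rw [h2]
          _ = t * g := by group
  rw [indFun]
  simp only [h, Finset.sum_add_distrib, Finset.sum_ite, Finset.sum_const_zero, add_zero,
    Finset.sum_const, nsmul_eq_mul]
  have e1 : (Finset.univ.filter fun g : G => g ∈ K).card = Nat.card K := by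
    rw [← Fintype.card_subtype, ← Nat.card_eq_fintype_card]
  have e2 : (Finset.univ.filter fun g : G => g * t = t * g ∧ g ∉ K).card = Nat.card K := by
    rw [← Fintype.card_subtype, ← Nat.card_eq_fintype_card, hy.card_outer]
  rw [e1, e2]
  have hk : (Nat.card K : ℂ) ≠ 0 := Nat.cast_ne_zero.mpr Nat.card_pos.ne'
  field_simp

theorem RR_K (φ : IrrCharacter K) (x : K) :
    RR φ x = 2 - (φ : K → ℂ) x - conj ((φ : K → ℂ) x) := by
  by_cases hx : x = 1
  · subst hx
    rw [RR]
    show indFun K _ (1 : G) = _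
    rw [CT.indFun_one_eval]
    simp [hy.lin_one]
    norm_num
  · rw [RR, hy.indFun_K _ hx]
    simp [hy.lin_inv]
    ring

theorem RR_outside (φ : IrrCharacter K) {g : G} (hg : ¬ InK K g) : RR φ g = 0 :=
  CT.indFun_eq_zero_of_not_conj_mem K _ fun x h => hg ⟨x⁻¹, by simpa using h⟩

theorem RR_one_eval (φ : IrrCharacter K) : RR φ (1 : G) = 0 := by
  rw [RR, CT.indFun_one_eval]; simp [hy.lin_one]

theorem RR_oneK : RR (oneK K) = (0 : G → ℂ) := by
  rw [RR]
  simp [oneK]

theorem isGen_RR (φ : IrrCharacter K) : IsGeneralizedCharacter G (RR φ) :=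
  CT.isGen_indFun K (CT.isGen_sub (CT.isGen_of_isCharacter CT.isCharacter_one)
    (CT.isGen_of_isIrr φ.2))

theorem isGen_RP (φ : IrrCharacter K) : IsGeneralizedCharacter G (RP φ) :=
  CT.isGen_sub (hy.isGen_RR φ) (CT.isGen_of_isCharacter CT.isCharacter_one)

theorem inner_RR_right {a : G → ℂ} (ha : IsClassFunction G a) (φ : IrrCharacter K) :
    classInner a (RR φ) =
      classInner (fun x : K => a x) (fun _ => 1) - classInner (fun x : K => a x) φ := by
  rw [RR, CT.frobenius_reciprocity' K ha, CT.classInner_sub_right]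

/-- Every class function is determined on `K \ {1}` by its products with the `RR φ`. -/
theorem formula {a : G → ℂ} (ha : IsClassFunction G a) {x : K} (hx : x ≠ 1) :
    a x = - ∑ φ : IrrCharacter K, classInner a (RR φ) * (φ : K → ℂ) x := by
  have hr : IsClassFunction K (fun y : K => a y) := by
    intro g y
    simpa using ha (g : G) (y : G)
  have h := congrFun (CT.classFunction_eq_sum hr) x
  simp only [Finset.sum_apply, Pi.smul_apply, smul_eq_mul] at h
  rw [h]
  simp only [hy.inner_RR_right ha, sub_mul, Finset.sum_sub_distrib]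
  rw [← Finset.mul_sum, hy.sum_zero hx, mul_zero, zero_sub, neg_neg]

open Classical in
theorem inner_RR (φ μ : IrrCharacter K) (hφ : φ ≠ oneK K) (hμ : μ ≠ oneK K) :
    classInner (RR φ) (RR μ) =
      2 + (if φ = μ then 1 else 0) + (if φ = cj hy μ then 1 else 0) := by
  have hres : (fun x : K => RR μ x) = (oneK K : K → ℂ) - μ + ((oneK K : K → ℂ) - cj hy μ) := by
    funext x
    simp only [hy.RR_K, Pi.add_apply, Pi.sub_apply, hy.cj_apply]
    show _ = (1 : ℂ) - _ + (1 - _)
    ring
  show classInner (indFun K ((oneK K : K → ℂ) - φ)) (RR μ) = _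
  rw [CT.frobenius_reciprocity K (χ := RR μ) _ (CT.isClassFunction_indFun K _), hres]
  have hc : cj hy μ ≠ oneK K := fun e => hμ (by rw [← hy.cj_cj μ, e, hy.cj_one])
  simp only [CT.classInner_sub_left, CT.classInner_add_right, CT.classInner_sub_right,
    CT.irr_inner_subtype, if_true, if_neg (Ne.symm hμ), if_neg (Ne.symm hc), if_neg hφ]
  ring

theorem inner_RR_oneG (φ : IrrCharacter K) (hφ : φ ≠ oneK K) :
    classInner (RR φ) (oneG G) = 1 := by
  classical
  show classInner (indFun K ((oneK K : K → ℂ) - φ)) (oneG G) = 1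
  rw [CT.frobenius_reciprocity K _ (signed_isClassFunction oneG_signed)]
  show classInner _ (oneK K : K → ℂ) = 1
  rw [CT.classInner_sub_left, CT.irr_inner_subtype, CT.irr_inner_subtype, if_pos rfl, if_neg hφ]
  ring

theorem inner_oneG_RR (φ : IrrCharacter K) (hφ : φ ≠ oneK K) :
    classInner (oneG G) (RR φ) = 1 := by
  rw [← CT.classInner_conj_symm, hy.inner_RR_oneG φ hφ, map_one]

theorem RP_oneG (φ : IrrCharacter K) (hφ : φ ≠ oneK K) : classInner (RP φ) (oneG G) = 0 := by
  rw [RP, CT.classInner_sub_left, hy.inner_RR_oneG φ hφ, isSigned_norm oneG_signed, sub_self]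

open Classical in
theorem inner_RP (φ μ : IrrCharacter K) (hφ : φ ≠ oneK K) (hμ : μ ≠ oneK K) :
    classInner (RP φ) (RP μ) =
      1 + (if φ = μ then 1 else 0) + (if φ = cj hy μ then 1 else 0) := by
  simp only [RP, CT.classInner_sub_left, CT.classInner_sub_right, hy.inner_RR φ μ hφ hμ,
    hy.inner_RR_oneG φ hφ, hy.inner_oneG_RR μ hμ, isSigned_norm oneG_signed]
  ring

theorem RP_one (φ : IrrCharacter K) : RP φ (1 : G) = -1 := by
  simp [RP, oneG, hy.RR_one_eval]

theorem inner_RR_of_RP {a : G → ℂ} (φ : IrrCharacter K)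
    (h1 : classInner a (oneG G) = 0) : classInner a (RR φ) = classInner a (RP φ) := by
  rw [RP, CT.classInner_sub_right, h1, sub_zero]

/-- The class sum at `g`, through the formula at `x`. -/
theorem sum_formula {x : K} (hx : x ≠ 1) (g : G) :
    ∑ ψ : IrrCharacter G, (ψ : G → ℂ) x * ((ψ : G → ℂ) g * conj ((ψ : G → ℂ) t) / (ψ : G → ℂ) 1) =
      - ∑ φ : IrrCharacter K, TT t g (RR φ) * (φ : K → ℂ) x := by
  have h : ∀ (ψ : IrrCharacter G) (φ : IrrCharacter K),
      classInner (ψ : G → ℂ) (RR φ) = classInner (RR φ) (ψ : G → ℂ) := by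
    intro ψ φ
    obtain ⟨m, hm⟩ := gen_inner_int (hy.isGen_RR φ) (CT.isGen_of_isIrr ψ.2)
    rw [← CT.classInner_conj_symm, hm, map_intCast]
  simp only [hy.formula (CT.isClassFunction_of_isIrr (Subtype.prop _)) hx, TT, h, neg_mul,
    Finset.sum_neg_distrib, neg_inj, Finset.sum_mul]
  rw [Finset.sum_comm]
  exact Finset.sum_congr rfl fun φ _ => Finset.sum_congr rfl fun ψ _ => by ring

theorem class_relation (g : G) :
    (Nat.card {y : G // orderOf y = 2} : ℂ) * SS t g = 2 * (Nat.card K : ℂ) * nn g := by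
  classical
  have h := ClassSum.sum_char_omega_conj (ClassSum.classInd_isClassWeight t) g t
  have hcl : Nat.card {x : G // IsConj t x} = Nat.card {y : G // orderOf y = 2} := by
    refine Nat.card_congr (Equiv.subtypeEquivRight fun x => ⟨fun h => ?_, hy.hconj t x hy.ht⟩)
    obtain ⟨c, hc⟩ := isConj_iff.mp h
    rw [← hc, orderOf_conj, hy.ht]
  have e1 : ∀ ψ : IrrCharacter G, (ψ : G → ℂ) g * ClassSum.omega (ψ : G → ℂ) (ClassSum.classInd t) *
      conj ((ψ : G → ℂ) t) = (Nat.card {y : G // orderOf y = 2} : ℂ) *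
      ((ψ : G → ℂ) g * (ψ : G → ℂ) t * conj ((ψ : G → ℂ) t) / (ψ : G → ℂ) 1) := by
    intro ψ
    rw [ClassSum.omega_classInd _ (CT.isClassFunction_of_isIrr ψ.2), hcl]
    ring
  simp only [e1, ← Finset.mul_sum] at h
  rw [SS, h, hy.card_cent]
  have e2 : ∑ a : G, (ClassSum.classInd t a : ℂ) * (ClassSum.classInd t (g * a) : ℂ) = (nn g : ℂ) := by
    have hiff : ∀ a : G, IsConj t a ↔ orderOf a = 2 := fun a =>
      ⟨fun h => by obtain ⟨c, hc⟩ := isConj_iff.mp h; rw [← hc, orderOf_conj, hy.ht],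
        hy.hconj t a hy.ht⟩
    rw [nn, Nat.card_eq_fintype_card, Fintype.card_subtype, Finset.card_filter, Nat.cast_sum]
    refine Finset.sum_congr rfl fun a _ => ?_
    unfold ClassSum.classInd
    split_ifs with h1 h2 h3 h4 <;> simp only [hiff] at * <;> simp_all
  rw [e2]
  push_cast
  ring

end Hyp

end Cfsg.Agent.BSW
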