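import Mathlib
import Cfsg.Agent.Lib.Recog.BSW.CharBase

/-!
# Brauer–Suzuki–Wall: the common constituent of the generalized characters
-/

set_option autoImplicit false
set_option linter.all false

namespace Cfsg.Agent.BSW

open scoped ComplexConjugate
open Cfsg Cfsg.Agent.OddChar

universe u

variable {G : Type u} [Group G] [Fintype G] {t : G} {K : Subgroup G} [Fintype K] {s : G}

theorem signed_pair_zero {a b o : G → ℂ} (ha : IsSigned a) (hb : IsSigned b) (ho : IsSigned o)
    (hab : classInner a b = 0) (h : classInner (a + b) o = 0) :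
    classInner a o = 0 ∧ classInner b o = 0 := by
  rw [CT.classInner_add_left] at h
  rcases isSigned_inner ha ho with h1 | ⟨e, he, h1, hae⟩
  · exact ⟨h1, by rwa [h1, zero_add] at h⟩
  · exfalso
    have he0 : e ≠ 0 := by rcases he with rfl | rfl <;> simp
    have h2 : classInner b o = 0 := by
      have h3 := isSigned_inner_symm_eq_zero hab
      rw [hae, CT.classInner_smul_right] at h3
      exact (mul_eq_zero.mp h3).resolve_left (by simpa using he0)
    rw [h1, h2, add_zero] at h
    exact he0 h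

theorem eq_of_inner {a b : G → ℂ} {n : ℂ} (h1 : classInner a a = n) (h2 : classInner b b = n)
    (h3 : classInner a b = n) (h4 : classInner b a = n) : a = b := by
  refine sub_eq_zero.mp (CT.classInner_self_eq_zero ?_)
  rw [CT.classInner_sub_left, CT.classInner_sub_right, CT.classInner_sub_right, h1, h2, h3, h4]
  ring

theorem coef_bound {a b : G → ℂ} (ha : IsGeneralizedCharacter G a) (hb : IsSigned b)
    (hn : (classInner a a).re ≤ 3) : ∃ m : ℤ, classInner a b = m ∧ -1 ≤ m ∧ m ≤ 1 := by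
  obtain ⟨m, hm⟩ := gen_inner_int ha (isSigned_isGen hb)
  have hm' : classInner b a = m := by rw [← CT.classInner_conj_symm, hm, map_intCast]
  have h0 := classInner_self_re_nonneg (a - (m : ℂ) • b)
  rw [CT.classInner_sub_left, CT.classInner_sub_right, CT.classInner_sub_right,
    CT.classInner_smul_right, CT.classInner_smul_left, CT.classInner_smul_right,
    CT.classInner_smul_left, isSigned_norm hb, hm, hm'] at h0
  simp only [map_intCast, Complex.sub_re, Complex.mul_re, Complex.intCast_re, Complex.intCast_im,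
    mul_one, mul_zero, sub_zero] at h0
  have h1 : ((m * m : ℤ) : ℝ) ≤ (3 : ℤ) := by push_cast; linarith
  have h2 : m * m ≤ 3 := by exact_mod_cast h1
  exact ⟨m, hm, by nlinarith, by nlinarith⟩

namespace Hyp

variable (hy : Hyp t K s)
include hy

theorem exists_lam0 : ∃ l : IrrCharacter K, l ≠ oneK K ∧ cj hy l = l ∧
    (∀ x : K, (l : K → ℂ) x = 1 ↔ ∃ y : K, y * y = x) ∧
    ∀ φ : IrrCharacter K, φ ≠ oneK K → cj hy φ = φ → φ = l := by
  classical
  haveI hKc : IsMulCommutative K := ⟨⟨hy.comm_K⟩⟩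
  letI : CommGroup K := { (inferInstance : Group K) with mul_comm := hy.comm_K }
  set sq : K →* K := powMonoidHom 2 with hsq
  set S := sq.range with hS
  have hmemS : ∀ x : K, x ∈ S ↔ ∃ y : K, y * y = x := fun x => by
    simp [hS, hsq, MonoidHom.mem_range, pow_two]
  have hker : Nat.card sq.ker = 2 := by
    have e : (sq.ker : Set K) = {1, ⟨t, hy.htK⟩} := by
      ext x
      show x ^ 2 = 1 ↔ _
      rw [pow_two]
      constructor
      · intro h
        rcases hy.sq_eq_one x.2 (congrArg Subtype.val h) with e | e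
        · exact Or.inl (Subtype.ext e)
        · exact Or.inr (Subtype.ext e)
      · rintro (rfl | h)
        · simp
        · rw [h]; exact Subtype.ext (mul_self_two hy.ht)
    rw [← SetLike.coe_sort_coe, Nat.card_coe_set_eq, e, Set.ncard_pair]
    exact fun e => hy.tne (congrArg Subtype.val e).symm
  have hidx : S.index = 2 := by
    have h1 := Subgroup.index_ker sq
    have h2 := sq.ker.index_mul_card
    have h3 := S.index_mul_card
    rw [h1, hker] at h2
    change Nat.card S * 2 = _ at h2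
    exact Nat.eq_of_mul_eq_mul_right Nat.card_pos
      (h3.trans (h2.symm.trans (mul_comm _ _)))
  let lh : K →* ℂˣ :=
    { toFun := fun x => if x ∈ S then 1 else -1
      map_one' := if_pos S.one_mem
      map_mul' := fun x y => by
        have h := Subgroup.mul_mem_iff_of_index_two hidx (a := x) (b := y)
        by_cases hx : x ∈ S <;> by_cases hy' : y ∈ S <;> simp [hx, hy', h] }
  let l : IrrCharacter K := ⟨fun x => (lh x : ℂ), CT.isIrrCharacter_lin lh⟩
  have hl : ∀ x : K, (l : K → ℂ) x = if x ∈ S then 1 else -1 := fun x => by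
    show (((if x ∈ S then 1 else -1 : ℂˣ)) : ℂ) = _
    split_ifs <;> simp
  have hlS : ∀ x : K, (l : K → ℂ) x = 1 ↔ ∃ y : K, y * y = x := fun x => by
    rw [hl, ← hmemS]
    split_ifs with h
    · simp [h]
    · simp [h]; norm_num
  obtain ⟨y₀, hy₀⟩ : ∃ y : K, y ∉ S := by
    by_contra h
    push Not at h
    have : S = ⊤ := eq_top_iff.mpr fun x _ => h x
    simp [this] at hidx
  refine ⟨l, fun e => hy₀ ((hmemS y₀).mpr ((hlS y₀).mp (by rw [e]; rfl))), ?_, hlS, ?_⟩
  · refine Subtype.ext (funext fun x => ?_)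
    rw [hy.cj_apply, hl]
    split_ifs <;> simp
  · intro φ hφ1 hφr
    have hreal : ∀ x : K, (φ : K → ℂ) x * (φ : K → ℂ) x = 1 := by
      intro x
      have h2 : conj ((φ : K → ℂ) x) = (φ : K → ℂ) x := by rw [← hy.cj_apply, hφr]
      have h3 := hy.lin_norm φ x
      rwa [h2] at h3
    have hsq1 : ∀ x ∈ S, (φ : K → ℂ) x = 1 := fun x hx => by
      obtain ⟨y, rfl⟩ := (hmemS x).mp hx
      rw [hy.lin_mul, hreal]
    have hns : ∀ x, x ∉ S → (φ : K → ℂ) x = (φ : K → ℂ) y₀ := fun x hx => by
      have h := hsq1 _ ((Subgroup.mul_mem_iff_of_index_two hidx).mpr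
        (iff_of_false hx hy₀) : x * y₀ ∈ S)
      rw [hy.lin_mul] at h
      calc (φ : K → ℂ) x = (φ : K → ℂ) x * ((φ : K → ℂ) y₀ * (φ : K → ℂ) y₀) := by
            rw [hreal, mul_one]
        _ = _ := by rw [← mul_assoc, h, one_mul]
    have hy₀v : (φ : K → ℂ) y₀ = -1 := by
      rcases mul_self_eq_one_iff.mp (hreal y₀) with h | h
      · refine absurd (Subtype.ext (funext fun x => ?_)) hφ1
        by_cases hx : x ∈ S
        · exact hsq1 x hx
        · exact (hns x hx).trans h
      · exact h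
    refine Subtype.ext (funext fun x => ?_)
    rw [hl]
    split_ifs with hx
    · exact hsq1 x hx
    · exact (hns x hx).trans hy₀v

/-- Either all `RP φ` share a constituent, or `|K| = 6` and they form a triangle. -/
theorem star_or_triangle (l : IrrCharacter K) (hl1 : l ≠ oneK K) (hlr : cj hy l = l)
    (hlu : ∀ φ : IrrCharacter K, φ ≠ oneK K → cj hy φ = φ → φ = l) (hk : 4 ≤ Nat.card K) :
    (∃ e : G → ℂ, IsSigned e ∧ classInner e (oneG G) = 0 ∧
      ∀ φ : IrrCharacter K, φ ≠ oneK K → classInner e (RP φ) = 1) ∨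
    ∃ (φ μ : IrrCharacter K) (a b c x : G → ℂ),
      IsSigned a ∧ IsSigned b ∧ IsSigned c ∧ IsSigned x ∧
      φ ≠ oneK K ∧ μ ≠ oneK K ∧ φ ≠ cj hy φ ∧ μ ≠ cj hy μ ∧ φ ≠ μ ∧ φ ≠ cj hy μ ∧
      (∀ ν : IrrCharacter K, ν = oneK K ∨ ν = l ∨ ν = φ ∨ ν = cj hy φ ∨ ν = μ ∨ ν = cj hy μ) ∧
      classInner a (oneG G) = 0 ∧ classInner b (oneG G) = 0 ∧ classInner c (oneG G) = 0 ∧
      classInner x (oneG G) = 0 ∧
      RP φ = a + b ∧ RP μ = b + c ∧ RP l = a + c + x ∧
      classInner a (RP φ) = 1 ∧ classInner a (RP μ) = 0 ∧ classInner a (RP l) = 1 ∧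
      classInner b (RP φ) = 1 ∧ classInner b (RP μ) = 1 ∧ classInner b (RP l) = 0 ∧
      classInner c (RP φ) = 0 ∧ classInner c (RP μ) = 1 ∧ classInner c (RP l) = 1 ∧
      classInner x (RP φ) = 0 ∧ classInner x (RP μ) = 0 ∧ classInner x (RP l) = 1 := by
  classical
  have sym : ∀ (p q : G → ℂ) (m : ℤ), classInner p q = m → classInner q p = m := fun p q m h => by
    rw [← CT.classInner_conj_symm, h, map_intCast]
  have hnr : ∀ φ : IrrCharacter K, φ ≠ oneK K → φ ≠ l → φ ≠ cj hy φ :=
    fun φ h1 h2 h => h2 (hlu φ h1 h.symm)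
  obtain ⟨φ, hφ⟩ : ∃ φ : IrrCharacter K, φ ∉ ({oneK K, l} : Finset (IrrCharacter K)) := by
    by_contra h
    push Not at h
    have h2 := hy.card_irr
    rw [← Finset.card_univ, ← Finset.eq_univ_of_forall h, Finset.card_pair hl1.symm] at h2
    omega
  simp only [Finset.mem_insert, Finset.mem_singleton, not_or] at hφ
  obtain ⟨hφ1, hφl⟩ := hφ
  have hφr := hnr φ hφ1 hφl
  have cjne : ∀ μ : IrrCharacter K, μ ≠ oneK K → cj hy μ ≠ oneK K := fun μ h e =>
    h (by rw [← hy.cj_cj μ, e, hy.cj_one])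
  have cjnel : ∀ μ : IrrCharacter K, μ ≠ l → cj hy μ ≠ l := fun μ h e =>
    h (by rw [← hy.cj_cj μ, e, hlr])
  have norm2 : ∀ μ : IrrCharacter K, μ ≠ oneK K → μ ≠ l → classInner (RP μ) (RP μ) = 2 := by
    intro μ h1 h2
    rw [hy.inner_RP μ μ h1 h1, if_pos rfl, if_neg (hnr μ h1 h2)]
    norm_num
  have norm0 : classInner (RP l) (RP l) = (3 : ℂ) := by
    rw [hy.inner_RP l l hl1 hl1, if_pos rfl, if_pos hlr.symm]
    norm_num
  have normle : ∀ μ : IrrCharacter K, μ ≠ oneK K → (classInner (RP μ) (RP μ)).re ≤ 3 := by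
    intro μ h1
    by_cases h2 : μ = l
    · rw [h2, norm0]; norm_num
    · rw [norm2 μ h1 h2]; norm_num
  have inner1 : ∀ ν ν' : IrrCharacter K, ν ≠ oneK K → ν' ≠ oneK K → ν ≠ ν' → ν ≠ cj hy ν' →
      classInner (RP ν) (RP ν') = (1 : ℂ) := by
    intro ν ν' h1 h2 h3 h4
    rw [hy.inner_RP ν ν' h1 h2, if_neg h3, if_neg h4]
    norm_num
  have hcj : ∀ μ : IrrCharacter K, μ ≠ oneK K → μ ≠ l → RP (cj hy μ) = RP μ := by
    intro μ h1 h2
    have hn := hnr μ h1 h2
    have hc := cjne μ h1
    refine eq_of_inner (n := 2) (norm2 _ hc (cjnel μ h2)) (norm2 μ h1 h2) ?_ ?_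
    · rw [hy.inner_RP _ _ hc h1, if_neg hn.symm, if_pos rfl]; norm_num
    · rw [hy.inner_RP _ _ h1 hc, if_neg hn, if_pos (hy.cj_cj μ).symm]; norm_num
  obtain ⟨p, q, hp, hq, hpq, hsum⟩ := gen_norm_two (hy.isGen_RP φ) (norm2 φ hφ1 hφl)
  have hpo := signed_pair_zero hp hq oneG_signed hpq (by rw [← hsum, hy.RP_oneG φ hφ1])
  -- exactly one of the two constituents
  have split : ∀ μ : IrrCharacter K, μ ≠ oneK K → μ ≠ φ → μ ≠ cj hy φ →
      (classInner p (RP μ) = 1 ∧ classInner q (RP μ) = 0) ∨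
      (classInner p (RP μ) = 0 ∧ classInner q (RP μ) = 1) := by
    intro μ h1 h2 h3
    obtain ⟨mp, hmp, hmp1, hmp2⟩ := coef_bound (hy.isGen_RP μ) hp (normle μ h1)
    obtain ⟨mq, hmq, hmq1, hmq2⟩ := coef_bound (hy.isGen_RP μ) hq (normle μ h1)
    have hs : classInner (RP μ) (p + q) = (1 : ℂ) := by rw [← hsum]; exact inner1 μ φ h1 hφ1 h2 h3
    rw [CT.classInner_add_right, hmp, hmq] at hs
    have hs' : mp + mq = 1 := by exact_mod_cast hs
    have hsym1 := sym _ _ _ hmp
    have hsym2 := sym _ _ _ hmq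
    rcases (show (mp = 1 ∧ mq = 0) ∨ (mp = 0 ∧ mq = 1) by omega) with ⟨e1, e2⟩ | ⟨e1, e2⟩ <;>
      simp [hsym1, hsym2, e1, e2]
  have main : ∀ a b : G → ℂ, IsSigned a → IsSigned b → classInner a b = 0 → RP φ = a + b →
      classInner a (oneG G) = 0 → classInner b (oneG G) = 0 → classInner a (RP l) = 1 →
      classInner b (RP l) = 0 →
      (∀ μ : IrrCharacter K, μ ≠ oneK K → μ ≠ φ → μ ≠ cj hy φ →
        (classInner a (RP μ) = 1 ∧ classInner b (RP μ) = 0) ∨
        (classInner a (RP μ) = 0 ∧ classInner b (RP μ) = 1)) →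
      ((∃ e : G → ℂ, IsSigned e ∧ classInner e (oneG G) = 0 ∧
        ∀ φ : IrrCharacter K, φ ≠ oneK K → classInner e (RP φ) = 1) ∨
      ∃ (φ μ : IrrCharacter K) (a b c x : G → ℂ),
        IsSigned a ∧ IsSigned b ∧ IsSigned c ∧ IsSigned x ∧
        φ ≠ oneK K ∧ μ ≠ oneK K ∧ φ ≠ cj hy φ ∧ μ ≠ cj hy μ ∧ φ ≠ μ ∧ φ ≠ cj hy μ ∧
        (∀ ν : IrrCharacter K, ν = oneK K ∨ ν = l ∨ ν = φ ∨ ν = cj hy φ ∨ ν = μ ∨ ν = cj hy μ) ∧
        classInner a (oneG G) = 0 ∧ classInner b (oneG G) = 0 ∧ classInner c (oneG G) = 0 ∧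
        classInner x (oneG G) = 0 ∧
        RP φ = a + b ∧ RP μ = b + c ∧ RP l = a + c + x ∧
        classInner a (RP φ) = 1 ∧ classInner a (RP μ) = 0 ∧ classInner a (RP l) = 1 ∧
        classInner b (RP φ) = 1 ∧ classInner b (RP μ) = 1 ∧ classInner b (RP l) = 0 ∧
        classInner c (RP φ) = 0 ∧ classInner c (RP μ) = 1 ∧ classInner c (RP l) = 1 ∧
        classInner x (RP φ) = 0 ∧ classInner x (RP μ) = 0 ∧ classInner x (RP l) = 1) := by
    intro a b ha hb hab hφab hao hbo hal hbl hsplit
    have hba := isSigned_inner_symm_eq_zero hab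
    have haφ : classInner a (RP φ) = 1 := by
      rw [hφab, CT.classInner_add_right, isSigned_norm ha, hab, add_zero]
    have hbφ : classInner b (RP φ) = 1 := by
      rw [hφab, CT.classInner_add_right, isSigned_norm hb, hba, zero_add]
    by_cases hall : ∀ μ : IrrCharacter K, μ ≠ oneK K → μ ≠ φ → μ ≠ cj hy φ →
        classInner a (RP μ) = 1
    · refine Or.inl ⟨a, ha, hao, fun μ h1 => ?_⟩
      by_cases e1 : μ = φ
      · rw [e1, haφ]
      by_cases e2 : μ = cj hy φ
      · rw [e2, hcj φ hφ1 hφl, haφ]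
      exact hall μ h1 e1 e2
    push Not at hall
    obtain ⟨μ, hμ1, hμφ, hμφ', hμa'⟩ := hall
    obtain ⟨hμa, hμb⟩ := (hsplit μ hμ1 hμφ hμφ').resolve_left (fun h => hμa' h.1)
    have hμl : μ ≠ l := fun e => hμa' (e ▸ hal)
    have hbμ' : classInner (RP μ) b = 1 := by rw [← CT.classInner_conj_symm, hμb, map_one]
    have haμ' : classInner (RP μ) a = 0 := isSigned_inner_symm_eq_zero hμa
    obtain ⟨c, hcdef⟩ : ∃ c, c = RP μ - b := ⟨_, rfl⟩
    have hc : IsSigned c := by
      rw [hcdef]
      refine isSigned_of_norm_one (CT.isGen_sub (hy.isGen_RP μ) (isSigned_isGen hb)) ?_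
      rw [CT.classInner_sub_left, CT.classInner_sub_right, CT.classInner_sub_right,
        norm2 μ hμ1 hμl, hbμ', hμb, isSigned_norm hb]
      norm_num
    have hμbc : RP μ = b + c := by rw [hcdef]; abel
    have hbc : classInner b c = 0 := by
      rw [hcdef, CT.classInner_sub_right, hμb, isSigned_norm hb, sub_self]
    have hac : classInner a c = 0 := by
      rw [hcdef, CT.classInner_sub_right, hμa, hab, sub_zero]
    have hca := isSigned_inner_symm_eq_zero hac
    have hco : classInner c (oneG G) = 0 := by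
      rw [hcdef, CT.classInner_sub_left, hy.RP_oneG μ hμ1, hbo, sub_zero]
    have hμl1 : classInner (RP μ) (RP l) = 1 :=
      inner1 μ l hμ1 hl1 hμl (by rw [hlr]; exact hμl)
    have hcl : classInner c (RP l) = 1 := by
      rw [hcdef, CT.classInner_sub_left, hμl1, hbl, sub_zero]
    have hcμ : classInner c (RP μ) = 1 := by
      rw [hμbc, CT.classInner_add_right, isSigned_inner_symm_eq_zero hbc, isSigned_norm hc, zero_add]
    have hcφ : classInner c (RP φ) = 0 := by
      rw [hφab, CT.classInner_add_right, hca, isSigned_inner_symm_eq_zero hbc, add_zero]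
    have hla : classInner (RP l) a = 1 := by rw [← CT.classInner_conj_symm, hal, map_one]
    have hlc : classInner (RP l) c = 1 := by rw [← CT.classInner_conj_symm, hcl, map_one]
    obtain ⟨x, hxdef⟩ : ∃ x, x = RP l - a - c := ⟨_, rfl⟩
    have hlx : RP l = a + c + x := by rw [hxdef]; abel
    have hx : IsSigned x := by
      rw [hxdef]
      refine isSigned_of_norm_one
        (CT.isGen_sub (CT.isGen_sub (hy.isGen_RP l) (isSigned_isGen ha)) (isSigned_isGen hc)) ?_
      simp only [CT.classInner_sub_left, CT.classInner_sub_right, norm0, hla, hlc, hal, hcl, hac,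
        hca, isSigned_norm ha, isSigned_norm hc]
      norm_num
    have hxo : classInner x (oneG G) = 0 := by
      rw [hxdef, CT.classInner_sub_left, CT.classInner_sub_left, hy.RP_oneG l hl1, hao, hco]
      simp
    have hxl : classInner x (RP l) = 1 := by
      rw [hxdef, CT.classInner_sub_left, CT.classInner_sub_left, norm0, hal, hcl]
      norm_num
    have hxφ : classInner x (RP φ) = 0 := by
      rw [hxdef, CT.classInner_sub_left, CT.classInner_sub_left,
        inner1 l φ hl1 hφ1 (Ne.symm hφl) (cjnel φ hφl).symm, haφ, hcφ]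
      norm_num
    have hxμ : classInner x (RP μ) = 0 := by
      rw [hxdef, CT.classInner_sub_left, CT.classInner_sub_left,
        inner1 l μ hl1 hμ1 (Ne.symm hμl) (cjnel μ hμl).symm, hμa, hcμ]
      norm_num
    refine Or.inr ⟨φ, μ, a, b, c, x, ha, hb, hc, hx, hφ1, hμ1, hφr, hnr μ hμ1 hμl, hμφ.symm,
      fun e => hμφ' (by rw [e, hy.cj_cj]), ?_, hao, hbo, hco, hxo, hφab, hμbc, hlx, haφ, hμa, hal,
      hbφ, hμb, hbl, hcφ, hcμ, hcl, hxφ, hxμ, hxl⟩
    -- there are no further characters
    intro ν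
    by_contra hν
    push Not at hν
    obtain ⟨hν1, hνl, hνφ, hνφ', hνμ, hνμ'⟩ := hν
    have hνμ1 := inner1 ν μ hν1 hμ1 hνμ hνμ'
    have hνl1 := inner1 ν l hν1 hl1 hνl (by rw [hlr]; exact hνl)
    have hlν : classInner (RP l) (RP ν) = 1 := by rw [← CT.classInner_conj_symm, hνl1, map_one]
    rcases hsplit ν hν1 hνφ hνφ' with ⟨hνa, hνb⟩ | ⟨hνa, hνb⟩
    · have hνb' : classInner (RP ν) b = 0 := isSigned_inner_symm_eq_zero hνb
      have hνa' : classInner (RP ν) a = 1 := by rw [← CT.classInner_conj_symm, hνa, map_one]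
      have hνc : classInner (RP ν) c = 1 := by
        have h := hνμ1
        rwa [hμbc, CT.classInner_add_right, hνb', zero_add] at h
      have hcν : classInner c (RP ν) = 1 := by rw [← CT.classInner_conj_symm, hνc, map_one]
      have heq : RP ν = a + c := by
        refine eq_of_inner (n := 2) (norm2 ν hν1 hνl) ?_ ?_ ?_
        · rw [CT.classInner_add_left, CT.classInner_add_right, CT.classInner_add_right,
            isSigned_norm ha, isSigned_norm hc, hac, hca]
          norm_num
        · rw [CT.classInner_add_right, hνa', hνc]; norm_num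
        · rw [CT.classInner_add_left, hνa, hcν]; norm_num
      rw [heq, CT.classInner_add_left, hal, hcl] at hνl1
      norm_num at hνl1
    · have hνa' : classInner (RP ν) a = 0 := isSigned_inner_symm_eq_zero hνa
      have hνb' : classInner (RP ν) b = 1 := by rw [← CT.classInner_conj_symm, hνb, map_one]
      have hνc : classInner (RP ν) c = 0 := by
        have h := hνμ1
        rwa [hμbc, CT.classInner_add_right, hνb', add_eq_left] at h
      have hνx : classInner (RP ν) x = 1 := by
        rw [hxdef, CT.classInner_sub_right, CT.classInner_sub_right, hνl1, hνa', hνc]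
        norm_num
      have hxν : classInner x (RP ν) = 1 := by rw [← CT.classInner_conj_symm, hνx, map_one]
      have hbx : classInner b x = 0 := by
        rw [hxdef, CT.classInner_sub_right, CT.classInner_sub_right, hbl, hba, hbc]
        norm_num
      have heq : RP ν = b + x := by
        refine eq_of_inner (n := 2) (norm2 ν hν1 hνl) ?_ ?_ ?_
        · rw [CT.classInner_add_left, CT.classInner_add_right, CT.classInner_add_right,
            isSigned_norm hb, isSigned_norm hx, hbx, isSigned_inner_symm_eq_zero hbx]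
          norm_num
        · rw [CT.classInner_add_right, hνb', hνx]; norm_num
        · rw [CT.classInner_add_left, hνb, hxν]; norm_num
      obtain ⟨A, hA, hA0⟩ := signed_one_int ha
      have h1 := hy.RP_one φ
      have h2 := hy.RP_one μ
      have h3 := hy.RP_one l
      have h4 := hy.RP_one ν
      rw [hφab] at h1
      rw [hμbc] at h2
      rw [hlx] at h3
      rw [heq] at h4
      simp only [Pi.add_apply] at h1 h2 h3 h4
      have h5 : (3 : ℂ) * a 1 = -1 := by linear_combination h3 + 2 * h1 - h2 - h4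
      rw [hA] at h5
      have h6 : 3 * A = -1 := by exact_mod_cast h5
      omega
  rcases split l hl1 (Ne.symm hφl) (cjnel φ hφl).symm with ⟨h1, h2⟩ | ⟨h1, h2⟩
  · exact main p q hp hq hpq hsum hpo.1 hpo.2 h1 h2 split
  · exact main q p hq hp (isSigned_inner_symm_eq_zero hpq) (hsum.trans (add_comm _ _)) hpo.2 hpo.1
      h2 h1 (fun μ a1 a2 a3 => (split μ a1 a2 a3).symm.imp And.symm And.symm)

end Hyp

end Cfsg.Agent.BSW
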