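import Mathlib
import Cfsg.Agent.Lib.Recog.BSW.Star

/-!
# Brauer–Suzuki–Wall: the exceptional configuration with `|K| = 6` does not occur
-/

set_option autoImplicit false
set_option linter.all false

namespace Cfsg.Agent.BSW

open scoped ComplexConjugate
open Cfsg Cfsg.Agent.OddChar

universe u

variable {G : Type u} [Group G] [Fintype G] {t : G} {K : Subgroup G} [Fintype K] {s : G}

namespace Hyp

variable (hy : Hyp t K s)
include hy

theorem not_triangle (l : IrrCharacter K) (hl1 : l ≠ oneK K) (hlr : cj hy l = l)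
    (hlS : ∀ x : K, (l : K → ℂ) x = 1 ↔ ∃ y : K, y * y = x) (φ μ : IrrCharacter K)
    (a b c x : G → ℂ) (ha : IsSigned a) (hb : IsSigned b) (hc : IsSigned c) (hx : IsSigned x)
    (hφ1 : φ ≠ oneK K) (hμ1 : μ ≠ oneK K) (hφr : φ ≠ cj hy φ) (hμr : μ ≠ cj hy μ)
    (hφμ : φ ≠ μ) (hφμ' : φ ≠ cj hy μ)
    (hcover : ∀ ν : IrrCharacter K,
      ν = oneK K ∨ ν = l ∨ ν = φ ∨ ν = cj hy φ ∨ ν = μ ∨ ν = cj hy μ)
    (hao : classInner a (oneG G) = 0) (hbo : classInner b (oneG G) = 0)
    (hco : classInner c (oneG G) = 0) (hxo : classInner x (oneG G) = 0)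
    (eφ : RP φ = a + b) (eμ : RP μ = b + c) (el : RP l = a + c + x)
    (aφ : classInner a (RP φ) = 1) (aμ : classInner a (RP μ) = 0) (al : classInner a (RP l) = 1)
    (bφ : classInner b (RP φ) = 1) (bμ : classInner b (RP μ) = 1) (bl : classInner b (RP l) = 0)
    (cφ : classInner c (RP φ) = 0) (cμ : classInner c (RP μ) = 1) (cl : classInner c (RP l) = 1)
    (xφ : classInner x (RP φ) = 0) (xμ : classInner x (RP μ) = 0) (xl : classInner x (RP l) = 1) :
    False := by
  classical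
  have cjne : ∀ ν : IrrCharacter K, ν ≠ oneK K → cj hy ν ≠ oneK K := fun ν h e =>
    h (by rw [← hy.cj_cj ν, e, hy.cj_one])
  have hφl : φ ≠ l := fun e => hφr (e ▸ hlr.symm)
  have hμl : μ ≠ l := fun e => hμr (e ▸ hlr.symm)
  have hcφl : cj hy φ ≠ l := fun e => hφl (by rw [← hy.cj_cj φ, e, hlr])
  have hcμl : cj hy μ ≠ l := fun e => hμl (by rw [← hy.cj_cj μ, e, hlr])
  have hcφμ : cj hy φ ≠ μ := fun e => hφμ' (by rw [← e, hy.cj_cj])
  have hcc : cj hy φ ≠ cj hy μ := fun e => hφμ (by rw [← hy.cj_cj φ, e, hy.cj_cj])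
  have huniv : (Finset.univ : Finset (IrrCharacter K)) =
      {oneK K, l, φ, cj hy φ, μ, cj hy μ} := by
    refine (Finset.eq_univ_of_forall fun ν => ?_).symm
    simpa using hcover ν
  have n1 : oneK K ∉ ({l, φ, cj hy φ, μ, cj hy μ} : Finset (IrrCharacter K)) := by
    simp [hl1.symm, hφ1.symm, hμ1.symm, (cjne φ hφ1).symm, (cjne μ hμ1).symm]
  have n2 : l ∉ ({φ, cj hy φ, μ, cj hy μ} : Finset (IrrCharacter K)) := by
    simp [hφl.symm, hμl.symm, hcφl.symm, hcμl.symm]
  have n3 : φ ∉ ({cj hy φ, μ, cj hy μ} : Finset (IrrCharacter K)) := by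
    simp [hφr, hφμ, hφμ']
  have n4 : cj hy φ ∉ ({μ, cj hy μ} : Finset (IrrCharacter K)) := by simp [hcφμ, hcc]
  have six : ∀ F : IrrCharacter K → ℂ, ∀ y : K, ∑ ν : IrrCharacter K, F ν * (ν : K → ℂ) y =
      F (oneK K) + F l * (l : K → ℂ) y + F φ * (φ : K → ℂ) y + F (cj hy φ) * conj ((φ : K → ℂ) y) +
        F μ * (μ : K → ℂ) y + F (cj hy μ) * conj ((μ : K → ℂ) y) := by
    intro F y
    rw [huniv, Finset.sum_insert n1, Finset.sum_insert n2, Finset.sum_insert n3,
      Finset.sum_insert n4, Finset.sum_pair hμr, hy.cj_apply, hy.cj_apply]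
    show F (oneK K) * 1 + _ = _
    ring
  have hk : Nat.card K = 6 := by
    rw [← hy.card_irr, ← Finset.card_univ, huniv, Finset.card_insert_of_notMem n1,
      Finset.card_insert_of_notMem n2, Finset.card_insert_of_notMem n3,
      Finset.card_insert_of_notMem n4, Finset.card_pair hμr]
  -- the values of the induced characters agree on conjugate characters
  have hRcj : ∀ ν : IrrCharacter K, ν ≠ oneK K → ν ≠ cj hy ν → RR (cj hy ν) = RR ν := by
    intro ν h1 h2
    refine eq_of_inner (n := 3) ?_ ?_ ?_ ?_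
    · rw [hy.inner_RR _ _ (cjne ν h1) (cjne ν h1), if_pos rfl,
        if_neg (fun e => h2 (by rw [hy.cj_cj] at e; exact e.symm))]
      norm_num
    · rw [hy.inner_RR _ _ h1 h1, if_pos rfl, if_neg h2]; norm_num
    · rw [hy.inner_RR _ _ (cjne ν h1) h1, if_neg h2.symm, if_pos rfl]; norm_num
    · rw [hy.inner_RR _ _ h1 (cjne ν h1), if_neg h2, if_pos (hy.cj_cj ν).symm]; norm_num
  have val : ∀ (w : G → ℂ) (A B C : ℂ), IsSigned w → classInner w (oneG G) = 0 →
      classInner w (RP φ) = A → classInner w (RP μ) = B → classInner w (RP l) = C →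
      ∀ y : K, y ≠ 1 → w y = -(A * ((φ : K → ℂ) y + conj ((φ : K → ℂ) y)) +
        B * ((μ : K → ℂ) y + conj ((μ : K → ℂ) y)) + C * (l : K → ℂ) y) := by
    intro w A B C hw hwo hA hB hC y hy'
    rw [hy.formula (signed_isClassFunction hw) hy', six (fun ν => classInner w (RR ν))]
    simp only [hRcj φ hφ1 hφr, hRcj μ hμ1 hμr, hy.RR_oneK, CT.classInner_zero_right,
      hy.inner_RR_of_RP φ hwo, hy.inner_RR_of_RP μ hwo, hy.inner_RR_of_RP l hwo, hA, hB, hC]
    ring
  have TTsum : ∀ ν : IrrCharacter K, RR ν = oneG G + RP ν := fun ν => by rw [RP]; abel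
  have Sformula : ∀ y : K, y ≠ 1 → SS t (y : G) =
      -(TT t t (RR φ) * ((φ : K → ℂ) y + conj ((φ : K → ℂ) y)) +
        TT t t (RR μ) * ((μ : K → ℂ) y + conj ((μ : K → ℂ) y)) +
        TT t t (RR l) * (l : K → ℂ) y) := by
    intro y hy'
    have h := hy.sum_formula hy' t
    rw [six (fun ν => TT t t (RR ν))] at h
    simp only [hRcj φ hφ1 hφr, hRcj μ hμ1 hμr, hy.RR_oneK] at h
    have h0 : TT t t (0 : G → ℂ) = 0 := by simp [TT]
    rw [h0] at h
    rw [SS]
    refine Eq.trans (Finset.sum_congr rfl fun ψ _ => ?_) (h.trans ?_) <;> ring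
  -- an element of order three
  haveI : Fact (Nat.Prime 3) := ⟨Nat.prime_three⟩
  obtain ⟨g, hg⟩ := exists_prime_orderOf_dvd_card' (G := K) 3 (by rw [hk]; norm_num)
  have hg1 : g ≠ 1 := fun e => by simp [e] at hg
  have hg3 : g ^ 3 = 1 := hg ▸ pow_orderOf_eq_one g
  have tt : (⟨t, hy.htK⟩ : K) ≠ 1 := fun e => hy.tne (congrArg Subtype.val e)
  set τ : K := ⟨t, hy.htK⟩ with hτ
  have hlg : (l : K → ℂ) g = 1 := (hlS g).mpr ⟨g * g, by
    calc g * g * (g * g) = g ^ 3 * g := by simp [pow_succ, mul_assoc]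
      _ = g := by rw [hg3, one_mul]⟩
  have hlt : (l : K → ℂ) τ = -1 := by
    have hsq : (l : K → ℂ) τ * (l : K → ℂ) τ = 1 := by
      rw [← hy.lin_mul, show τ * τ = 1 from Subtype.ext (mul_self_two hy.ht), hy.lin_one]
    refine (mul_self_eq_one_iff.mp hsq).resolve_left fun h => ?_
    obtain ⟨w, hw⟩ := (hlS τ).mp h
    have hw4 : w ^ (2 * 2) = 1 := by
      rw [pow_mul, pow_two w, hw, pow_two]; exact Subtype.ext (mul_self_two hy.ht)
    have hw2 : ¬ w ^ 2 = 1 := by rw [pow_two, hw]; exact tt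
    haveI : Fact (Nat.Prime 2) := ⟨Nat.prime_two⟩
    have ho : orderOf w = 2 ^ (1 + 1) := orderOf_eq_prime_pow (by simpa using hw2) (by simpa using hw4)
    have := ho ▸ orderOf_dvd_natCard w
    rw [hk] at this
    norm_num at this
  have hzero : ∀ y : K, y ≠ 1 → 1 + (l : K → ℂ) y + ((φ : K → ℂ) y + conj ((φ : K → ℂ) y)) +
      ((μ : K → ℂ) y + conj ((μ : K → ℂ) y)) = 0 := by
    intro y hy'
    have h := six (fun _ => 1) y
    simp only [one_mul] at h
    rw [hy.sum_zero hy'] at h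
    linear_combination -h
  have hcube : ∀ ν : IrrCharacter K, (ν : K → ℂ) g + conj ((ν : K → ℂ) g) = 2 ∨
      (ν : K → ℂ) g + conj ((ν : K → ℂ) g) = -1 := by
    intro ν
    have h3 : (ν : K → ℂ) g * ((ν : K → ℂ) g * (ν : K → ℂ) g) = 1 := by
      rw [← hy.lin_mul, ← hy.lin_mul, ← pow_two, ← pow_succ', hg3, hy.lin_one]
    have hn := hy.lin_norm ν g
    set z := (ν : K → ℂ) g
    have hz : conj z = z * z := by linear_combination (-conj z) * h3 + (z * z) * hn
    have h4 : (z - 1) * (z * z + z + 1) = 0 := by linear_combination h3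
    rcases mul_eq_zero.mp h4 with h | h
    · left; rw [hz]; linear_combination (z + 2) * h
    · right; rw [hz]; linear_combination h
  have hPg : (φ : K → ℂ) g + conj ((φ : K → ℂ) g) = -1 ∧
      (μ : K → ℂ) g + conj ((μ : K → ℂ) g) = -1 := by
    have h := hzero g hg1
    rw [hlg] at h
    rcases hcube φ with e1 | e1 <;> rcases hcube μ with e2 | e2 <;> rw [e1, e2] at h <;>
      first | exact ⟨e1, e2⟩ | norm_num at h
  have hPt : ∃ d : ℂ, (d = 2 ∨ d = -2) ∧ (φ : K → ℂ) τ + conj ((φ : K → ℂ) τ) = d ∧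
      (μ : K → ℂ) τ + conj ((μ : K → ℂ) τ) = -d := by
    have hsq : (φ : K → ℂ) τ * (φ : K → ℂ) τ = 1 := by
      rw [← hy.lin_mul, show τ * τ = 1 from Subtype.ext (mul_self_two hy.ht), hy.lin_one]
    have h := hzero τ tt
    rw [hlt] at h
    refine ⟨_, ?_, rfl, by linear_combination h⟩
    rcases mul_self_eq_one_iff.mp hsq with e | e
    · left; rw [e]; simp; norm_num
    · right; rw [e]; simp; norm_num
  obtain ⟨d, hd, hdφ, hdμ⟩ := hPt
  -- values
  have va : a t = 1 - d := by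
    have h := val a 1 0 1 ha hao aφ aμ al τ tt
    rw [hdφ, hdμ, hlt] at h
    rw [show a t = a (τ : G) from rfl, h]; ring
  have vb : b t = 0 := by
    have h := val b 1 1 0 hb hbo bφ bμ bl τ tt
    rw [hdφ, hdμ, hlt] at h
    rw [show b t = b (τ : G) from rfl, h]; ring
  have vc : c t = 1 + d := by
    have h := val c 0 1 1 hc hco cφ cμ cl τ tt
    rw [hdφ, hdμ, hlt] at h
    rw [show c t = c (τ : G) from rfl, h]; ring
  have vx : x t = 1 := by
    have h := val x 0 0 1 hx hxo xφ xμ xl τ tt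
    rw [hdφ, hdμ, hlt] at h
    rw [show x t = x (τ : G) from rfl, h]; ring
  obtain ⟨A, hA, hA0⟩ := signed_one_int ha
  obtain ⟨B, hB, hB0⟩ := signed_one_int hb
  obtain ⟨C, hC, hC0⟩ := signed_one_int hc
  obtain ⟨X, hX, hX0⟩ := signed_one_int hx
  have r1 : A + B = -1 := by
    have h := hy.RP_one φ; rw [eφ, Pi.add_apply, hA, hB] at h; exact_mod_cast h
  have r2 : B + C = -1 := by
    have h := hy.RP_one μ; rw [eμ, Pi.add_apply, hB, hC] at h; exact_mod_cast h
  have r3 : A + C + X = -1 := by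
    have h := hy.RP_one l; rw [el, Pi.add_apply, Pi.add_apply, hA, hC, hX] at h; exact_mod_cast h
  obtain rfl : C = A := by omega
  have hone : TT t t (oneG G) = 1 := by rw [TT_signed t oneG_signed]; simp [oneG]
  have hd2 : conj d = d := by
    rcases hd with rfl | rfl <;> simp [Complex.ext_iff]
  have T1 : TT t t (RR φ) = 1 + (1 - d) * (1 - d) / C := by
    rw [TTsum, eφ, TT_add, TT_add, hone, TT_signed t ha, TT_signed t hb, va, vb, hA]
    simp [hd2]
  have T2 : TT t t (RR μ) = 1 + (1 + d) * (1 + d) / C := by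
    rw [TTsum, eμ, TT_add, TT_add, hone, TT_signed t hb, TT_signed t hc, vc, vb, hC]
    simp [hd2]
  have T0 : TT t t (RR l) = 1 + (1 - d) * (1 - d) / C + (1 + d) * (1 + d) / C + 1 / X := by
    rw [TTsum, el, TT_add, TT_add, TT_add, hone, TT_signed t ha, TT_signed t hc, TT_signed t hx, va,
      vc, vx, hA, hC, hX]
    simp [hd2]
    ring
  have hgt : (g : G) ≠ t := fun e => by
    have h1 : orderOf (g : G) = 3 := by rw [Subgroup.orderOf_coe, hg]
    rw [e, hy.ht] at h1
    norm_num at h1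
  have hI : (Nat.card {y : G // orderOf y = 2} : ℂ) ≠ 0 := by
    haveI : Nonempty {y : G // orderOf y = 2} := ⟨⟨t, hy.ht⟩⟩
    exact Nat.cast_ne_zero.mpr Nat.card_pos.ne'
  have hS : SS t t = SS t (g : G) := by
    refine mul_left_cancel₀ hI ?_
    rw [hy.class_relation, hy.class_relation, hy.nn_t,
      hy.nn_mem g.2 (fun e => hg1 (Subtype.ext e)) hgt]
  have S1 := Sformula τ tt
  rw [hdφ, hdμ, hlt, show ((τ : K) : G) = t from rfl, hS, Sformula g hg1, hPg.1, hPg.2, hlg,
    T1, T2, T0] at S1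
  have hCne : (C : ℂ) ≠ 0 := Int.cast_ne_zero.mpr hA0
  have hXne : (X : ℂ) ≠ 0 := Int.cast_ne_zero.mpr hX0
  field_simp at S1
  have key : 26 * X + 2 * C = 0 := by
    rcases hd with rfl | rfl
    · have : (26 : ℂ) * X + 2 * C = 0 := by linear_combination -S1
      exact_mod_cast this
    · have : (26 : ℂ) * X + 2 * C = 0 := by linear_combination -S1
      exact_mod_cast this
  omega

end Hyp

end Cfsg.Agent.BSW
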