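import Mathlib
import Cfsg.Agent.Lib.Recog.BSW.Triangle
import Cfsg.Agent.Lib.Recog.BSW.Arith

/-!
# Brauer–Suzuki–Wall: the order of the group and the class constants
-/

set_option autoImplicit false
set_option linter.all false

namespace Cfsg.Agent.BSW

open scoped ComplexConjugate
open Cfsg Cfsg.Agent.OddChar

universe u

namespace Hyp

theorem cases_four {G : Type u} [Group G] [Finite G] {t : G} {K : Subgroup G} {s : G}
    (hy : Hyp t K s) (hk4 : 4 ≤ Nat.card K) : PlusCase t K ∨ MinusCase t K := by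
  classical
  haveI := Fintype.ofFinite G
  obtain ⟨l, hl1, hlr, hlS, hlu⟩ := hy.exists_lam0
  rcases hy.star_or_triangle l hl1 hlr hlu hk4 with ⟨e, he, heo, heR⟩ | htri
  swap
  · obtain ⟨φ, μ, a, b, c, x, h⟩ := htri
    obtain ⟨ha, hb, hc, hx, hφ1, hμ1, hφr, hμr, hφμ, hφμ', hcover, hao, hbo, hco, hxo, eφ, eμ, el,
      aφ, aμ, al, bφ, bμ, bl, cφ, cμ, cl, xφ, xμ, xl⟩ := h
    exact (hy.not_triangle l hl1 hlr hlS φ μ a b c x ha hb hc hx hφ1 hμ1 hφr hμr hφμ hφμ' hcover
      hao hbo hco hxo eφ eμ el aφ aμ al bφ bμ bl cφ cμ cl xφ xμ xl).elim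
  have hk : (Nat.card K : ℂ) ≠ 0 := Nat.cast_ne_zero.mpr Nat.card_pos.ne'
  have heR' : ∀ φ : IrrCharacter K, φ ≠ oneK K → classInner (RP φ) e = 1 := fun φ h => by
    rw [← CT.classInner_conj_symm, heR φ h, map_one]
  have heRR : ∀ φ : IrrCharacter K, classInner e (RR φ) = if φ = oneK K then 0 else 1 := by
    intro φ
    split_ifs with h
    · rw [h, hy.RR_oneK, CT.classInner_zero_right]
    · rw [hy.inner_RR_of_RP φ heo, heR φ h]
  -- sums over the characters
  have sum_ne : ∀ y : K, y ≠ 1 →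
      ∑ φ : IrrCharacter K, (if φ = oneK K then 0 else (φ : K → ℂ) y) = -1 := by
    intro y hy'
    have h1 : ∀ φ : IrrCharacter K, (if φ = oneK K then 0 else (φ : K → ℂ) y) =
        (φ : K → ℂ) y - if φ = oneK K then 1 else 0 := fun φ => by
      by_cases h : φ = oneK K
      · subst h; simp [oneK]
      · rw [if_neg h, if_neg h, sub_zero]
    rw [Finset.sum_congr rfl fun φ _ => h1 φ, Finset.sum_sub_distrib, hy.sum_zero hy',
      Finset.sum_ite_eq', if_pos (Finset.mem_univ _), zero_sub]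
  have he_K : ∀ y : K, y ≠ 1 → e y = 1 := by
    intro y hy'
    rw [hy.formula (signed_isClassFunction he) hy']
    have h1 : ∀ φ : IrrCharacter K, classInner e (RR φ) * (φ : K → ℂ) y =
        if φ = oneK K then 0 else (φ : K → ℂ) y := fun φ => by
      rw [heRR]; split_ifs <;> simp
    rw [Finset.sum_congr rfl fun φ _ => h1 φ, sum_ne y hy', neg_neg]
  -- the leaves
  have nrl : ∀ φ : IrrCharacter K, φ ≠ oneK K → φ ≠ l → φ ≠ cj hy φ :=
    fun φ h1 h2 h => h2 (hlu φ h1 h.symm)
  have hleaf : ∀ φ : IrrCharacter K, φ ≠ oneK K → φ ≠ l →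
      IsSigned (RP φ - e) ∧ ∀ y : K, y ≠ 1 →
        (RP φ - e) y = -((φ : K → ℂ) y + conj ((φ : K → ℂ) y)) := by
    intro φ h1 h2
    have hn := nrl φ h1 h2
    have hsig : IsSigned (RP φ - e) := by
      refine isSigned_of_norm_one (CT.isGen_sub (hy.isGen_RP φ) (isSigned_isGen he)) ?_
      rw [CT.classInner_sub_left, CT.classInner_sub_right, CT.classInner_sub_right,
        hy.inner_RP φ φ h1 h1, if_pos rfl, if_neg hn, heR φ h1, heR' φ h1, isSigned_norm he]
      norm_num
    have ho : classInner (RP φ - e) (oneG G) = 0 := by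
      rw [CT.classInner_sub_left, hy.RP_oneG φ h1, heo, sub_zero]
    refine ⟨hsig, fun y hy' => ?_⟩
    rw [hy.formula (signed_isClassFunction hsig) hy']
    have hc : ∀ μ : IrrCharacter K, classInner (RP φ - e) (RR μ) * (μ : K → ℂ) y =
        (if μ = φ then (μ : K → ℂ) y else 0) + if μ = cj hy φ then (μ : K → ℂ) y else 0 := by
      intro μ
      by_cases hμ : μ = oneK K
      · subst hμ
        rw [hy.RR_oneK, CT.classInner_zero_right, zero_mul, if_neg h1.symm,
          if_neg (fun e' => h1 (by rw [← hy.cj_cj φ, ← e', hy.cj_one])), add_zero]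
      · rw [hy.inner_RR_of_RP μ ho, CT.classInner_sub_left, hy.inner_RP φ μ h1 hμ, heR μ hμ]
        have e1 : (φ = cj hy μ) ↔ (μ = cj hy φ) :=
          ⟨fun h => by rw [h, hy.cj_cj], fun h => by rw [h, hy.cj_cj]⟩
        rw [if_congr (eq_comm (a := φ) (b := μ)) rfl rfl, if_congr e1 rfl rfl]
        split_ifs <;> ring
    rw [Finset.sum_congr rfl fun μ _ => hc μ, Finset.sum_add_distrib, Finset.sum_ite_eq',
      Finset.sum_ite_eq', if_pos (Finset.mem_univ _), if_pos (Finset.mem_univ _), hy.cj_apply]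
  -- the two constituents at the real character
  obtain ⟨θ, θ', hθ, hθ', hθθ', hsum⟩ : ∃ θ θ' : G → ℂ, IsSigned θ ∧ IsSigned θ' ∧
      classInner θ θ' = 0 ∧ RP l - e = θ + θ' := by
    refine gen_norm_two (CT.isGen_sub (hy.isGen_RP l) (isSigned_isGen he)) ?_
    rw [CT.classInner_sub_left, CT.classInner_sub_right, CT.classInner_sub_right,
      hy.inner_RP l l hl1 hl1, if_pos rfl, if_pos hlr.symm, heR l hl1, heR' l hl1, isSigned_norm he]
    norm_num
  have hθval : ∀ w w' : G → ℂ, IsSigned w → IsSigned w' → classInner w w' = 0 →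
      RP l - e = w + w' → ∀ y : K, y ≠ 1 → w y = -(l : K → ℂ) y := by
    intro w w' hw hw' hww hws y hy'
    have hwo := signed_pair_zero hw hw' oneG_signed hww (by
      rw [← hws, CT.classInner_sub_left, hy.RP_oneG l hl1, heo, sub_zero])
    have hwe := signed_pair_zero hw hw' he hww (by
      rw [← hws, CT.classInner_sub_left, heR' l hl1, isSigned_norm he, sub_self])
    have hc : ∀ μ : IrrCharacter K, classInner w (RR μ) * (μ : K → ℂ) y =
        if μ = l then (μ : K → ℂ) y else 0 := by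
      intro μ
      by_cases hμ : μ = oneK K
      · subst hμ
        rw [hy.RR_oneK, CT.classInner_zero_right, zero_mul, if_neg hl1.symm]
      rw [hy.inner_RR_of_RP μ hwo.1]
      by_cases hμl : μ = l
      · rw [if_pos hμl, hμl]
        have : RP l = e + (w + w') := by rw [← hws]; abel
        rw [this, CT.classInner_add_right, CT.classInner_add_right, hwe.1, isSigned_norm hw, hww]
        ring
      · rw [if_neg hμl]
        have hf := (hleaf μ hμ hμl).1
        have hμ' : μ ≠ cj hy l := by rw [hlr]; exact hμl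
        have h0 : classInner (w + w') (RP μ - e) = 0 := by
          rw [← hws, CT.classInner_sub_left, CT.classInner_sub_right, CT.classInner_sub_right,
            heR' l hl1, heR μ hμ, isSigned_norm he, hy.inner_RP l μ hl1 hμ, if_neg (Ne.symm hμl),
            if_neg (fun h => hμl (by rw [← hy.cj_cj μ, ← h, hlr]))]
          norm_num
        have := (signed_pair_zero hw hw' hf hww h0).1
        rw [CT.classInner_sub_right, hwe.1, sub_zero] at this
        rw [this, zero_mul]
    rw [hy.formula (signed_isClassFunction hw) hy', Finset.sum_congr rfl fun μ _ => hc μ,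
      Finset.sum_ite_eq', if_pos (Finset.mem_univ _)]
  have hθK := hθval θ θ' hθ hθ' hθθ' hsum
  have hθK' := hθval θ' θ hθ' hθ (isSigned_inner_symm_eq_zero hθθ') (hsum.trans (add_comm _ _))
  -- the degrees
  obtain ⟨X, hX, hX0⟩ := signed_one_int he
  obtain ⟨A, hA, hA0⟩ := signed_one_int hθ
  obtain ⟨A', hA', hA'0⟩ := signed_one_int hθ'
  have hAA : A + A' = -1 - X := by
    have h := congrFun hsum (1 : G)
    simp only [Pi.sub_apply, Pi.add_apply, hy.RP_one, hX, hA, hA'] at h
    exact_mod_cast h.symm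
  have hf1 : ∀ φ : IrrCharacter K, (RP φ - e) (1 : G) = -1 - (X : ℂ) := fun φ => by
    rw [Pi.sub_apply, hy.RP_one, hX]
  obtain ⟨φ₁, hφ₁⟩ : ∃ φ : IrrCharacter K, φ ≠ oneK K ∧ φ ≠ l := by
    by_contra h
    push Not at h
    have h2 := hy.card_irr
    rw [← Finset.card_univ, show (Finset.univ : Finset (IrrCharacter K)) = {oneK K, l} from
      (Finset.eq_univ_of_forall fun φ => by
        by_cases e' : φ = oneK K
        · simp [e']
        · simp [h φ e']).symm, Finset.card_pair hl1.symm] at h2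
    omega
  have hX1 : X + 1 ≠ 0 := by
    intro h
    obtain ⟨n, hn, hn0⟩ := signed_one_int (hleaf φ₁ hφ₁.1 hφ₁.2).1
    rw [hf1] at hn
    have : -1 - X = n := by exact_mod_cast hn
    omega
  have hXC : (X : ℂ) ≠ 0 := Int.cast_ne_zero.mpr hX0
  have hX1C : (X : ℂ) + 1 ≠ 0 := by exact_mod_cast hX1
  have hAC : (A : ℂ) ≠ 0 := Int.cast_ne_zero.mpr hA0
  have hA'C : (A' : ℂ) ≠ 0 := Int.cast_ne_zero.mpr hA'0
  -- values at `t`
  set τ : K := ⟨t, hy.htK⟩ with hτ
  have hτ1 : τ ≠ 1 := fun h => hy.tne (congrArg Subtype.val h)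
  have hττ : τ * τ = 1 := Subtype.ext (mul_self_two hy.ht)
  have hsq : ∀ φ : IrrCharacter K, (φ : K → ℂ) τ * (φ : K → ℂ) τ = 1 := fun φ => by
    rw [← hy.lin_mul, hττ, hy.lin_one]
  have hconjτ : ∀ φ : IrrCharacter K, conj ((φ : K → ℂ) τ) = (φ : K → ℂ) τ := fun φ => by
    rw [← hy.lin_inv, inv_eq_of_mul_eq_one_right hττ]
  have het : e t = 1 := he_K τ hτ1
  have hθt : θ t = -(l : K → ℂ) τ := hθK τ hτ1
  have hθt' : θ' t = -(l : K → ℂ) τ := hθK' τ hτ1
  have hft : ∀ φ : IrrCharacter K, φ ≠ oneK K → φ ≠ l →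
      (RP φ - e) t = -(2 * (φ : K → ℂ) τ) := fun φ h1 h2 => by
    rw [show (RP φ - e) t = (RP φ - e) (τ : G) from rfl, (hleaf φ h1 h2).2 τ hτ1, hconjτ]; ring
  have TTone : ∀ g : G, TT t g (oneG G) = 1 := fun g => by
    rw [TT_signed g oneG_signed]; simp [oneG]
  have TTe : ∀ g : G, TT t g e = e g / X := fun g => by
    rw [TT_signed g he, het, hX]; simp
  have RRsplit : ∀ φ : IrrCharacter K, RR φ = oneG G + (e + (RP φ - e)) := fun φ => by
    rw [RP]; abel
  have TTnr : ∀ (g : G) (φ : IrrCharacter K), φ ≠ oneK K → φ ≠ l → TT t g (RR φ) =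
      1 + e g / X + (RP φ - e) g * (-(2 * (φ : K → ℂ) τ)) / (-1 - X) := by
    intro g φ h1 h2
    rw [RRsplit φ, TT_add, TT_add, TTone, TTe, TT_signed g (hleaf φ h1 h2).1, hft φ h1 h2, hf1,
      map_neg, map_mul, map_ofNat, hconjτ]
    ring
  have TTl : ∀ g : G, TT t g (RR l) =
      1 + e g / X + (θ g * (-(l : K → ℂ) τ) / A + θ' g * (-(l : K → ℂ) τ) / A') := by
    intro g
    rw [RRsplit l, hsum, TT_add, TT_add, TT_add, TTone, TTe, TT_signed g hθ, TT_signed g hθ', hθt,
      hθt', hA, hA', map_neg, hconjτ]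
    ring
  have TTzero : ∀ g : G, TT t g (RR (oneK K)) = 0 := fun g => by
    rw [hy.RR_oneK]; simp [TT]
  -- the class sum at elements of `K`
  obtain ⟨C₁, hC₁⟩ : ∃ C : ℂ, C = 1 + 1 / (X : ℂ) + 4 / (-1 - (X : ℂ)) := ⟨_, rfl⟩
  obtain ⟨C₀, hC₀⟩ : ∃ C : ℂ, C = 1 + 1 / (X : ℂ) + (1 / (A : ℂ) + 1 / (A' : ℂ)) := ⟨_, rfl⟩
  have SK : ∀ y : K, y ≠ 1 → SS t (y : G) = C₁ + (C₁ - C₀) * (l : K → ℂ) y := by
    intro y hy'
    have h := hy.sum_formula hy' t
    have hT : ∀ φ : IrrCharacter K, TT t t (RR φ) * (φ : K → ℂ) y =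
        C₁ * (if φ = oneK K then 0 else (φ : K → ℂ) y) +
          (C₀ - C₁) * (if φ = l then (φ : K → ℂ) y else 0) := by
      intro φ
      by_cases h1 : φ = oneK K
      · subst h1; rw [TTzero, if_pos rfl, if_neg hl1.symm]; ring
      by_cases h2 : φ = l
      · subst h2
        rw [TTl, if_neg h1, if_pos rfl, hθt, hθt', het, hC₀]
        have := hsq φ
        linear_combination ((φ : K → ℂ) y / A + (φ : K → ℂ) y / A') * this
      · rw [TTnr t φ h1 h2, if_neg h1, if_neg h2, hft φ h1 h2, het, hC₁]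
        have := hsq φ
        linear_combination (4 * (φ : K → ℂ) y / (-1 - X)) * this
    rw [Finset.sum_congr rfl fun φ _ => hT φ, Finset.sum_add_distrib, ← Finset.mul_sum,
      ← Finset.mul_sum, sum_ne y hy', Finset.sum_ite_eq', if_pos (Finset.mem_univ _)] at h
    rw [SS]
    refine Eq.trans (Finset.sum_congr rfl fun ψ _ => ?_) (h.trans ?_) <;> ring
  -- two elements on which the real character differs
  obtain ⟨g₀, hg1, hgt, hgl⟩ : ∃ g : K, g ≠ 1 ∧ g ≠ τ ∧ (l : K → ℂ) g ≠ (l : K → ℂ) τ := by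
    by_cases hlt : (l : K → ℂ) τ = 1
    · obtain ⟨g, hg⟩ : ∃ g : K, (l : K → ℂ) g ≠ 1 := by
        by_contra h
        push Not at h
        exact hl1 (Subtype.ext (funext fun x => h x))
      refine ⟨g, fun e' => hg (by rw [e', hy.lin_one]), fun e' => hg (by rw [e', hlt]), ?_⟩
      rw [hlt]; exact hg
    · -- a square other than one
      obtain ⟨w, hw1, hwt⟩ : ∃ w : K, w ≠ 1 ∧ w ≠ τ := by
        by_contra h
        push Not at h
        have h2 : Fintype.card K ≤ ({1, τ} : Finset K).card := Finset.card_le_card fun x _ => by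
          by_cases e' : x = 1
          · simp [e']
          · simp [h x e']
        rw [← Nat.card_eq_fintype_card, Finset.card_pair hτ1.symm] at h2
        omega
      have hl' : (l : K → ℂ) (w * w) = 1 := (hlS _).mpr ⟨w, rfl⟩
      refine ⟨w * w, fun e' => ?_, fun e' => hlt (e' ▸ hl'), by rw [hl']; exact Ne.symm hlt⟩
      rcases hy.sq_eq_one w.2 (congrArg Subtype.val e') with h | h
      · exact hw1 (Subtype.ext h)
      · exact hwt (Subtype.ext h)
  have hI : (Nat.card {y : G // orderOf y = 2} : ℂ) ≠ 0 := by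
    haveI : Nonempty {y : G // orderOf y = 2} := ⟨⟨t, hy.ht⟩⟩
    exact Nat.cast_ne_zero.mpr Nat.card_pos.ne'
  have hC : C₁ = C₀ := by
    have h1 : SS t (g₀ : G) = SS t (τ : G) := by
      refine mul_left_cancel₀ hI ?_
      rw [hy.class_relation, hy.class_relation, hy.nn_mem g₀.2 (fun h => hg1 (Subtype.ext h))
        (fun h => hgt (Subtype.ext h))]
      rw [show ((τ : K) : G) = t from rfl, hy.nn_t]
    rw [SK g₀ hg1, SK τ hτ1] at h1
    have h2 : (C₁ - C₀) * ((l : K → ℂ) g₀ - (l : K → ℂ) τ) = 0 := by linear_combination h1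
    exact sub_eq_zero.mp ((mul_eq_zero.mp h2).resolve_right (sub_ne_zero.mpr hgl))
  have hmain : (Nat.card {y : G // orderOf y = 2} : ℂ) * C₁ =
      2 * (Nat.card K : ℂ) * Nat.card K := by
    have h := hy.class_relation t
    rw [hy.nn_t, show SS t t = SS t (τ : G) from rfl, SK τ hτ1, hC] at h
    rw [hC]
    linear_combination h
  have hAeq : A = A' := by
    have hm : (-1 - (X : ℂ)) = (A : ℂ) + A' := by exact_mod_cast hAA.symm
    have hne : (A : ℂ) + A' ≠ 0 := by
      rw [← hm]; intro h0; exact hX1C (by linear_combination -h0)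
    have h := hC
    rw [hC₁, hC₀, hm] at h
    field_simp at h
    have h' : ((A : ℂ) - A') * ((A : ℂ) - A') = 0 := by
      have hX' := hXC
      first
        | linear_combination h
        | linear_combination -h
        | (apply mul_left_cancel₀ hX'; first | linear_combination h | linear_combination -h)
    exact_mod_cast sub_eq_zero.mp (mul_self_eq_zero.mp h')
  subst hAeq
  have hA2 : (A : ℂ) = (-1 - X) / 2 := by
    have hm : (-1 - (X : ℂ)) = (A : ℂ) + A := by exact_mod_cast hAA.symm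
    rw [hm]; ring
  -- integrality: `X ≡ 1` modulo `|K|`
  obtain ⟨m, hm⟩ : ∃ m : ℤ, X + (Nat.card K : ℤ) - 1 = (Nat.card K : ℤ) * m := by
    obtain ⟨m, hm⟩ := gen_inner_int (CT.isGen_restrict K (isSigned_isGen he))
      (CT.isGen_of_isIrr (oneK K).2)
    refine ⟨m, ?_⟩
    have hs : ∑ y : K, e y = (X : ℂ) + ((Nat.card K : ℂ) - 1) := by
      rw [← Finset.add_sum_erase _ _ (Finset.mem_univ (1 : K)),
        Finset.sum_congr rfl fun y hy' => he_K y (Finset.mem_erase.mp hy').1,
        Finset.sum_const, Finset.card_erase_of_mem (Finset.mem_univ _), Finset.card_univ,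
        nsmul_eq_mul, mul_one, ← Nat.card_eq_fintype_card, Nat.cast_sub Nat.card_pos]
      simp [hX]
    have hv : classInner (fun y : K => e y) (oneK K : K → ℂ) =
        (Nat.card K : ℂ)⁻¹ * ((X : ℂ) + ((Nat.card K : ℂ) - 1)) := by
      rw [← hs]; simp [classInner, oneK]
    rw [hv] at hm
    have h' : (X : ℂ) + (Nat.card K : ℂ) - 1 = (Nat.card K : ℂ) * m := by
      rw [← hm]; field_simp; ring
    exact_mod_cast h'
  -- the arithmetic
  obtain ⟨M', hM'⟩ := hy.two_card_dvd_out
  have hinv : (Nat.card {y : G // orderOf y = 2} : ℤ) = 2 * (Nat.card K : ℤ) * M' + 1 + Nat.card K +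
      Nat.card K * ((Nat.card K : ℤ) - 2) := by
    rw [hy.card_invol, hM']
    push_cast [hy.two_le_card]
    ring
  have hsq2 : (Nat.card {y : G // orderOf y = 2} : ℤ) * (X - 1) ^ 2 =
      2 * (Nat.card K : ℤ) ^ 2 * X * (X + 1) := by
    have h := hmain
    rw [hC₁] at h
    have hne : (-1 - (X : ℂ)) ≠ 0 := fun h0 => hX1C (by linear_combination -h0)
    field_simp at h
    have h' : (Nat.card {y : G // orderOf y = 2} : ℂ) * ((X : ℂ) - 1) ^ 2 =
        2 * (Nat.card K : ℂ) ^ 2 * X * (X + 1) := by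
      first
        | linear_combination h
        | linear_combination -h
    exact_mod_cast h'
  have hkeven : (2 : ℤ) ∣ (Nat.card K : ℤ) := by exact_mod_cast hy.two_dvd_card
  have hcase := degree_arith (Nat.card K) _ X M' m hkeven (by exact_mod_cast hk4) hinv
    (by
      haveI : Nonempty {y : G // orderOf y = 2} := ⟨⟨t, hy.ht⟩⟩
      exact_mod_cast Nat.card_pos (α := {y : G // orderOf y = 2}))
    hm hX0 hX1 hsq2
  -- the class constant outside
  have Sout : ∀ g : G, ¬ InK K g → SS t g =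
      (1 + e g / X) + ((Nat.card K : ℂ) - 1) * (2 * (1 + e g) / (1 + X)) := by
    intro g hg
    have h := hy.sum_formula hτ1 g
    have hR0 : ∀ φ : IrrCharacter K, (RP φ - e) g = -1 - e g := fun φ => by
      simp [RP, oneG, hy.RR_outside φ hg]
    have hθg : θ g + θ' g = -1 - e g := by rw [← hR0 l, hsum]; rfl
    have hT : ∀ φ : IrrCharacter K, TT t g (RR φ) * (φ : K → ℂ) τ =
        (1 + e g / X) * (if φ = oneK K then 0 else (φ : K → ℂ) τ) +
          (-(2 * (1 + e g) / (1 + X))) * (if φ = oneK K then 0 else 1) := by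
      intro φ
      have hsφ := hsq φ
      have hne : (-1 - (X : ℂ)) ≠ 0 := fun h0 => hX1C (by linear_combination -h0)
      have hX1C' : 1 + (X : ℂ) ≠ 0 := by rwa [add_comm]
      by_cases h1 : φ = oneK K
      · subst h1; rw [TTzero, if_pos rfl, if_pos rfl]; ring
      by_cases h2 : φ = l
      · subst h2
        rw [TTl, if_neg h1, if_neg h1, hA2,
          show (-1 - (X : ℂ)) / 2 = -((1 + X) / 2) by ring, div_neg, div_neg, div_div_eq_mul_div,
          div_div_eq_mul_div]
        linear_combination (2 * (φ : K → ℂ) τ * (φ : K → ℂ) τ / (1 + X)) * hθg +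
          (2 * (-1 - e g) / (1 + X)) * hsφ
      · rw [TTnr g φ h1 h2, if_neg h1, if_neg h1, hR0,
          show (-1 - (X : ℂ)) = -(1 + X) by ring, div_neg]
        linear_combination (2 * (-1 - e g) / (1 + X)) * hsφ
    rw [Finset.sum_congr rfl fun φ _ => hT φ, Finset.sum_add_distrib, ← Finset.mul_sum,
      ← Finset.mul_sum, sum_ne τ hτ1] at h
    have hcnt : ∑ φ : IrrCharacter K, (if φ = oneK K then (0 : ℂ) else 1) = (Nat.card K : ℂ) - 1 := by
      have h1 : ∀ φ : IrrCharacter K, (if φ = oneK K then (0 : ℂ) else 1) =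
          1 - if φ = oneK K then 1 else 0 := fun φ => by split_ifs <;> simp
      rw [Finset.sum_congr rfl fun φ _ => h1 φ, Finset.sum_sub_distrib, Finset.sum_ite_eq',
        if_pos (Finset.mem_univ _)]
      simp [hy.card_irr]
    rw [hcnt] at h
    rw [SS]
    refine Eq.trans (Finset.sum_congr rfl fun ψ _ => ?_) (h.trans ?_)
    · show _ = (ψ : G → ℂ) t * _
      ring
    · ring
  have hLL : Nat.card {z : G // SR t K z} = 2 * Nat.card K * M' := hy.out_equiv ▸ hM'
  have hG := hy.card_G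
  rcases hcase with ⟨hXv, hIv, hLv⟩ | ⟨hXv, hIv, hLv⟩
  · refine Or.inl ⟨?_, ?_, ?_⟩
    · rw [hG]
      have : (Nat.card {y : G // orderOf y = 2}) = (2 * Nat.card K + 1) * (Nat.card K + 1) := by
        exact_mod_cast hIv
      rw [this]; ring
    · rw [hLL]; exact_mod_cast hLv
    intro g hg
    have h := hy.class_relation g
    rw [Sout g hg] at h
    have hI' : (Nat.card {y : G // orderOf y = 2} : ℂ) =
        (2 * (Nat.card K : ℂ) + 1) * ((Nat.card K : ℂ) + 1) := by exact_mod_cast hIv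
    have hX' : (X : ℂ) = 2 * (Nat.card K : ℂ) + 1 := by rw [hXv]; push_cast; rfl
    rw [hI', hX'] at h
    have hq : (2 * (Nat.card K : ℂ) + 1) ≠ 0 := hX' ▸ hXC
    have hM : ((Nat.card K : ℂ) + 1) ≠ 0 := by exact_mod_cast Nat.succ_ne_zero (Nat.card K)
    have hM2 : (1 + (2 * (Nat.card K : ℂ) + 1)) ≠ 0 := by
      rw [show (1 + (2 * (Nat.card K : ℂ) + 1)) = 2 * ((Nat.card K : ℂ) + 1) by ring]
      exact mul_ne_zero two_ne_zero hM
    have hnn : (nn g : ℂ) = 2 * (Nat.card K : ℂ) + 1 + (Nat.card K : ℂ) * e g := by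
      refine mul_left_cancel₀ (mul_ne_zero two_ne_zero hk) (h.symm.trans ?_)
      field_simp
      ring
    have hne : nn g ≠ 0 := by
      intro h0
      rw [h0, Nat.cast_zero] at hnn
      have hint : IsIntegral ℤ (((2 * Nat.card K + 1 : ℕ) : ℂ) / (Nat.card K : ℂ)) := by
        have : ((2 * Nat.card K + 1 : ℕ) : ℂ) / (Nat.card K : ℂ) = -(e g) := by
          rw [div_eq_iff hk]; push_cast; linear_combination -hnn
        rw [this]; exact (signed_integral he g).neg
      have hd := ClassSum.eq_natCast_div_mem Nat.card_pos hint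
      have : Nat.card K ∣ 1 := (Nat.dvd_add_right (Dvd.intro_left 2 rfl)).mp hd
      have := Nat.le_of_dvd one_pos this
      omega
    refine ⟨hne, ?_⟩
    have hcc : 1 ≤ cc g := Nat.card_pos
    have hint : IsIntegral ℤ (((cc g - 1 : ℕ) : ℂ) / (Nat.card K : ℂ)) := by
      have : ((cc g - 1 : ℕ) : ℂ) / (Nat.card K : ℂ) = e g + 2 := by
        rw [div_eq_iff hk, Nat.cast_sub hcc, ← hy.nn_real hg hne, Nat.cast_one, hnn]; ring
      rw [this]
      exact (signed_integral he g).add (by simpa using isIntegral_algebraMap (R := ℤ) (A := ℂ) (x := 2))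
    exact ClassSum.eq_natCast_div_mem Nat.card_pos hint
  · have hk1 : 1 ≤ Nat.card K := Nat.card_pos
    have hk1' : 1 ≤ 2 * Nat.card K := by omega
    refine Or.inr ⟨?_, ?_, ?_⟩
    · rw [hG]
      have : (Nat.card {y : G // orderOf y = 2}) = (2 * Nat.card K - 1) * (Nat.card K - 1) := by
        generalize Nat.card {y : G // orderOf y = 2} = I at hIv ⊢
        zify [hk1, hk1']; exact hIv
      rw [this]; ring
    · rw [hLL]
      zify [hy.two_le_card]
      exact_mod_cast hLv
    intro g hg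
    have h := hy.class_relation g
    rw [Sout g hg] at h
    have hI' : (Nat.card {y : G // orderOf y = 2} : ℂ) =
        (2 * (Nat.card K : ℂ) - 1) * ((Nat.card K : ℂ) - 1) := by exact_mod_cast hIv
    have hX' : (X : ℂ) = 1 - 2 * (Nat.card K : ℂ) := by rw [hXv]; push_cast; rfl
    rw [hI', hX'] at h
    have hq : (1 - 2 * (Nat.card K : ℂ)) ≠ 0 := hX' ▸ hXC
    have hM : ((Nat.card K : ℂ) - 1) ≠ 0 := by
      intro h0
      have : (Nat.card K : ℂ) = ((1 : ℕ) : ℂ) := by push_cast; linear_combination h0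
      have := Nat.cast_injective this
      omega
    have hM2 : (1 + (1 - 2 * (Nat.card K : ℂ))) ≠ 0 := by
      rw [show (1 + (1 - 2 * (Nat.card K : ℂ))) = -2 * ((Nat.card K : ℂ) - 1) by ring]
      exact mul_ne_zero (by norm_num) hM
    have hnn : (nn g : ℂ) = -(((Nat.card K : ℂ) - 1) * e g) := by
      refine mul_left_cancel₀ (mul_ne_zero two_ne_zero hk) (h.symm.trans ?_)
      field_simp
      ring
    have hk2 := hy.two_le_card
    refine ClassSum.eq_natCast_div_mem (by omega) ?_
    have : (nn g : ℂ) / ((Nat.card K - 1 : ℕ) : ℂ) = -(e g) := by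
      rw [hnn, Nat.cast_sub hk1, Nat.cast_one, div_eq_iff hM]; ring
    rw [this]; exact (signed_integral he g).neg

end Hyp

end Cfsg.Agent.BSW
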