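import Mathlib
import Cfsg.Agent.Lib.Basics.FrobeniusBasic
import Cfsg.Agent.Lib.Basics.ThompsonFpf

/-!
# Brauer–Suzuki–Wall: a group with a malnormal centralizer
-/

set_option autoImplicit false
set_option linter.all false

namespace Cfsg.Agent.BSW

/-- If the centralizer of an element `d` of prime order is malnormal and of order prime to `r`,
and centralizers of `r`-elements are `r`-groups, then the group is a normal `r`-group extended
by that centralizer. -/
theorem frob_lemma {N : Type*} [Group N] [Finite N] (r : ℕ) [Fact r.Prime] {d : N} {p : ℕ}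
    (hp : p.Prime) (hd : orderOf d = p) (T : Subgroup N) (hT : T = Subgroup.centralizer ({d} : Set N))
    (hrT : ¬ r ∣ Nat.card T) (hrN : r ∣ Nat.card N)
    (hmal : ∀ g y : N, y ∈ T → y ≠ 1 → g * y * g⁻¹ ∈ T → g ∈ T)
    (hr : ∀ x y : N, orderOf x = r → x * y = y * x → ∃ m : ℕ, orderOf y = r ^ m) :
    ∃ R : Subgroup N, IsPGroup r R ∧ Nat.card R * Nat.card T = Nat.card N ∧
      ∀ x : N, (∃ m : ℕ, orderOf x = r ^ m) → x ∈ R := by
  classical
  haveI : Fact p.Prime := ⟨hp⟩
  have hdT : d ∈ T := hT ▸ Subgroup.mem_centralizer_singleton_iff.mpr rfl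
  have hd1 : d ≠ 1 := fun e => hp.ne_one (by rw [← hd, e, orderOf_one])
  have hF : Cfsg.IsFrobeniusComplement T := by
    refine ⟨fun e => hd1 (Subgroup.mem_bot.mp (e ▸ hdT)),
      fun e => hrT (by rw [e, Subgroup.card_top]; exact hrN), fun g hg => ?_⟩
    rw [eq_bot_iff]
    rintro x ⟨hx, hx'⟩
    obtain ⟨y, hy, rfl⟩ := Subgroup.mem_map.mp hx'
    rw [Subgroup.mem_bot]
    by_contra h1
    have hy1 : y ≠ 1 := fun e => h1 (by simp [e])
    exact hg (hmal g y hy hy1 (by simpa using hx))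
  obtain ⟨Nk, -, hNn, hc⟩ := Cfsg.Agent.S0035.result T hF
  haveI := hNn
  haveI : Group.IsNilpotent Nk := Basics.isNilpotent_of_conj_fpf Nk hd fun n hn e => by
    have h1 : n ∈ T := hT ▸ Subgroup.mem_centralizer_singleton_iff.mpr e.symm
    exact Subgroup.mem_bot.mp (hc.disjoint.le_bot ⟨hn, h1⟩)
  have hcard : Nat.card Nk * Nat.card T = Nat.card N := hc.card_mul
  have hmem : ∀ x : N, (∃ m : ℕ, orderOf x = r ^ m) → x ∈ Nk := by
    rintro x ⟨m, hm⟩
    rw [← QuotientGroup.eq_one_iff (N := Nk), ← orderOf_eq_one_iff]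
    refine Nat.eq_one_of_dvd_coprimes ((Fact.out : r.Prime).coprime_iff_not_dvd.mpr hrT |>.pow_left m)
      (hm ▸ orderOf_map_dvd (QuotientGroup.mk' Nk) x) ?_
    have h1 : Nat.card (N ⧸ Nk) = Nat.card T := hc.symm.index_eq_card
    exact h1 ▸ orderOf_dvd_natCard _
  refine ⟨Nk, IsPGroup.of_card (n := (Nat.card Nk).primeFactorsList.length) ?_, hcard, hmem⟩
  refine Nat.eq_prime_pow_of_unique_prime_dvd Nat.card_pos.ne' fun {q} hq hqd => ?_
  by_contra hne
  haveI : Fact q.Prime := ⟨hq⟩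
  have hrK : r ∣ Nat.card Nk := ((Fact.out : r.Prime).dvd_mul.mp (hcard ▸ hrN)).resolve_right hrT
  obtain ⟨y, hy⟩ := exists_prime_orderOf_dvd_card' (G := Nk) q hqd
  obtain ⟨x, hx⟩ := exists_prime_orderOf_dvd_card' (G := Nk) r hrK
  obtain ⟨S, hS⟩ := (IsPGroup.of_card (n := 1) (by rw [Nat.card_zpowers, hy, pow_one]) :
    IsPGroup q (Subgroup.zpowers y)).exists_le_sylow
  obtain ⟨R, hR⟩ := (IsPGroup.of_card (n := 1) (by rw [Nat.card_zpowers, hx, pow_one]) :
    IsPGroup r (Subgroup.zpowers x)).exists_le_sylow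
  have hnc : NormalizerCondition Nk := Group.normalizerCondition_of_isNilpotent
  haveI hSn : (S : Subgroup Nk).Normal := Sylow.normal_of_normalizerCondition hnc S
  haveI hRn : (R : Subgroup Nk).Normal := Sylow.normal_of_normalizerCondition hnc R
  have hdis : Disjoint (S : Subgroup Nk) (R : Subgroup Nk) := IsPGroup.disjoint_of_ne q r hne _ _ S.2 R.2
  have hcomm : Commute y x := Subgroup.commute_of_normal_of_disjoint (S : Subgroup Nk)
    (R : Subgroup Nk) hSn hRn hdis y x (hS (Subgroup.mem_zpowers y)) (hR (Subgroup.mem_zpowers x))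
  obtain ⟨m, hm⟩ := hr x y (by rw [Subgroup.orderOf_coe, hx]) (congrArg Subtype.val hcomm.symm.eq)
  rw [Subgroup.orderOf_coe, hy] at hm
  rcases Nat.eq_zero_or_pos m with rfl | hm0
  · exact hq.ne_one (by simpa using hm)
  · exact hne ((Nat.prime_dvd_prime_iff_eq Fact.out hq).mp (hm ▸ dvd_pow_self r hm0.ne')).symm

end Cfsg.Agent.BSW
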