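import Mathlib
import Cfsg.Agent.Lib.Recog.BSW.Two

/-!
# Brauer–Suzuki–Wall: the case `|G| = 2k(2k+1)(k+1)`
-/

set_option autoImplicit false
set_option linter.all false

namespace Cfsg.Agent.BSW

/-- The conclusion of the theorem. -/
def Goal (G : Type*) [Group G] : Prop :=
  ∃ Q D : Subgroup G, 2 * Nat.card G = Nat.card ↥Q * (Nat.card ↥Q + 1) * (Nat.card ↥Q - 1) ∧
    (∀ x ∈ Q, x ≠ 1 → Subgroup.centralizer ({x} : Set G) = Q) ∧
    IsMulCommutative ↥D ∧ 2 * Nat.card ↥D + 1 = Nat.card ↥Q ∧ Q ⊓ D = ⊥ ∧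
    Subgroup.normalizer (Q : Set G) = Q ⊔ D ∧
    ∀ X : Subgroup G, X ≤ D → X ≠ ⊥ →
      Subgroup.normalizer (X : Set G) = Subgroup.normalizer (D : Set G) ∧
      ∃ u : G, orderOf u = 2 ∧ u ∉ D ∧ (∀ d ∈ D, u * d * u⁻¹ = d⁻¹) ∧
        Subgroup.normalizer (D : Set G) = D ⊔ Subgroup.zpowers u

theorem size_arith {k a c e d : ℕ} (hk : 2 ≤ k) (hc0 : 0 < c) (ha : a = 1 + c * k)
    (hd : d = 1 + e * k) (had : a * d = (2 * k + 1) * (k + 1)) (hle : 2 * (a - 1) ≤ k * (k + 4)) :
    a = k + 1 ∨ a = 2 * k + 1 := by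
  have h2c : 2 * c ≤ k + 4 := by
    have : k * (2 * c) ≤ k * (k + 4) := by
      rw [ha, Nat.add_sub_cancel_left] at hle
      calc k * (2 * c) = 2 * (c * k) := by ring
        _ ≤ _ := hle
    exact Nat.le_of_mul_le_mul_left this (by omega)
  subst ha hd
  have h : c + e + c * e * k = 2 * k + 3 := by
    have h1 : k * (c + e + c * e * k) = k * (2 * k + 3) := by
      nlinarith
    exact Nat.eq_of_mul_eq_mul_left (by omega) h1
  rcases Nat.lt_or_ge (c * e) 3 with h3 | h3
  · interval_cases hce : c * e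
    · have : e = 0 := (mul_eq_zero.mp hce).resolve_left (by omega)
      omega
    · have := Nat.eq_one_of_mul_eq_one_right hce
      have := Nat.eq_one_of_mul_eq_one_left hce
      omega
    · have he0 : 0 < e := Nat.pos_of_ne_zero (fun e' => by simp [e'] at hce)
      have h4 : c + e = 3 := by omega
      have hc2 : c ≤ 2 := by omega
      interval_cases c
      · left; ring
      · right; ring
  · exfalso
    have : 3 * k ≤ c * e * k := Nat.mul_le_mul_right k h3
    have he0 : 0 < e := Nat.pos_of_ne_zero (fun e' => by simp [e'] at h3)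
    omega

variable {G : Type*} [Group G] [Finite G] {t : G} {K : Subgroup G} {s : G}

namespace Hyp

variable (hy : Hyp t K s)
include hy

/-- An element of the normalizer of `C(z)` lies in `C(z) · C(t)`. -/
theorem norm_decomp {z n : G} (hz : SR t K z) (hn : (n * z * n⁻¹) * z = z * (n * z * n⁻¹)) :
    ∃ c : G, c * z = z * c ∧ (c * n) * t = t * (c * n) ∧
      ((c * n) * z * (c * n)⁻¹) * z = z * ((c * n) * z * (c * n)⁻¹) := by
  have hz1 := hy.sr_ne_one hz
  set u := n * t * n⁻¹ with hu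
  have hu2 : orderOf u = 2 := by rw [hu, orderOf_conj, hy.ht]
  have hC := hy.cent_eq hz hn (conj_ne' hz1)
  have hm : (n⁻¹ * z * n) * z = z * (n⁻¹ * z * n) := by
    calc (n⁻¹ * z * n) * z = n⁻¹ * (z * (n * z * n⁻¹)) * n := by group
      _ = n⁻¹ * ((n * z * n⁻¹) * z) * n := by rw [hn]
      _ = _ := by group
  have huz : u * z * u⁻¹ = z⁻¹ := by
    have h1 := hy.t_inv hz hm
    calc u * z * u⁻¹ = n * (t * (n⁻¹ * z * n) * t⁻¹) * n⁻¹ := by rw [hu]; group
      _ = n * (n⁻¹ * z * n)⁻¹ * n⁻¹ := by rw [h1]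
      _ = _ := by group
  obtain ⟨b, hb⟩ : ∃ b, b = t * u := ⟨_, rfl⟩
  have hbz : b * z = z * b := by
    rw [← mul_inv_eq_iff_eq_mul, hb]
    calc t * u * z * (t * u)⁻¹ = t * (u * z * u⁻¹) * t⁻¹ := by group
      _ = (t * z * t⁻¹)⁻¹ := by rw [huz]; group
      _ = z := by rw [hz.2, inv_inv]
  have hbC : b ∈ Subgroup.centralizer ({z} : Set G) :=
    Subgroup.mem_centralizer_singleton_iff.mpr hbz
  have hbo : Odd (orderOf b) := by
    have hodd := hy.odd_cc hz.1
    have hdvd : orderOf b ∣ cc z := by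
      rw [cc, ← Subgroup.orderOf_mk b hbC]
      exact orderOf_dvd_natCard _
    exact hodd.of_dvd_nat hdvd
  obtain ⟨j, hj⟩ := hbo
  refine ⟨b ^ (j + 1), Subgroup.mem_centralizer_singleton_iff.mp (Subgroup.pow_mem _ hbC _), ?_, ?_⟩
  · set c := b ^ (j + 1) with hc
    have hcc : c * c = b := by
      rw [hc, ← pow_add, show j + 1 + (j + 1) = (2 * j + 1) + 1 by ring, pow_succ, ← hj,
        pow_orderOf_eq_one, one_mul]
    have hcz : c * z = z * c := Subgroup.mem_centralizer_singleton_iff.mp (Subgroup.pow_mem _ hbC _)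
    have htc := hy.t_inv hz hcz
    have hueq : u = c⁻¹ * t * c := by
      have : c⁻¹ * t = t * c := by
        rw [← htc, mul_assoc (t * c), inv_mul_cancel, mul_one]
      rw [this, mul_assoc, hcc, hb, ← mul_assoc, mul_self_two hy.ht, one_mul]
    calc c * n * t = c * u * n := by rw [hu]; group
      _ = c * (c⁻¹ * t * c) * n := by rw [hueq]
      _ = t * (c * n) := by group
  · set c := b ^ (j + 1)
    have hcz : c * z = z * c := Subgroup.mem_centralizer_singleton_iff.mp (Subgroup.pow_mem _ hbC _)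
    have h1 : n * z * n⁻¹ ∈ Subgroup.centralizer ({z} : Set G) :=
      Subgroup.mem_centralizer_singleton_iff.mpr hn
    have h2 : c ∈ Subgroup.centralizer ({z} : Set G) :=
      Subgroup.mem_centralizer_singleton_iff.mpr hcz
    have h3 := (Subgroup.centralizer ({z} : Set G)).mul_mem
      ((Subgroup.centralizer ({z} : Set G)).mul_mem h2 h1) (Subgroup.inv_mem _ h2)
    rw [show c * n * z * (c * n)⁻¹ = c * (n * z * n⁻¹) * c⁻¹ by group]
    exact Subgroup.mem_centralizer_singleton_iff.mp h3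

theorem cent_eq_of_mem {z x : G} (hz : SR t K z)
    (hx : x ∈ Subgroup.centralizer ({z} : Set G)) (hx1 : x ≠ 1) :
    Subgroup.centralizer ({x} : Set G) = Subgroup.centralizer ({z} : Set G) :=
  hy.cent_eq hz (Subgroup.mem_centralizer_singleton_iff.mp hx) hx1

theorem isComm_cent {z : G} (hz : SR t K z) :
    IsMulCommutative (Subgroup.centralizer ({z} : Set G)) :=
  ⟨⟨fun a b => Subtype.ext (hy.comm_cent hz (Subgroup.mem_centralizer_singleton_iff.mp a.2)
    (Subgroup.mem_centralizer_singleton_iff.mp b.2))⟩⟩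

theorem plus_goal (hP : PlusCase t K) : Goal G := by
  classical
  obtain ⟨hG, hL, hout⟩ := hP
  set k := Nat.card K with hk
  have hk2 := hy.two_le_card
  rw [← hk] at hk2
  obtain ⟨I, hIdef⟩ : ∃ I, I = Nat.card {y : G // orderOf y = 2} := ⟨_, rfl⟩
  have hI : I = (2 * k + 1) * (k + 1) := by
    have h := hy.card_G
    rw [hG, ← hk, ← hIdef] at h
    refine Nat.eq_of_mul_eq_mul_left (show 0 < 2 * k by omega) ?_
    rw [← h]; ring
  -- sizes of the centralizers
  have hsize : ∀ z : G, SR t K z → cc z = k + 1 ∨ cc z = 2 * k + 1 := by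
    intro z hz
    obtain ⟨c, hc⟩ := (hout z hz.1).2
    have h1 : 1 < cc z := by
      have hnb : Subgroup.centralizer ({z} : Set G) ≠ ⊥ := fun e => hy.sr_ne_one hz
        (Subgroup.mem_bot.mp (le_of_eq e (Subgroup.mem_centralizer_singleton_iff.mpr rfl)))
      exact (Subgroup.one_lt_card_iff_ne_bot _).mpr hnb
    have hd : cc z ∣ (2 * k + 1) * (k + 1) := by
      have h2 := cc_dvd z
      rw [hG, mul_assoc] at h2
      refine Nat.Coprime.dvd_of_dvd_mul_left ?_ h2
      refine Nat.Coprime.mul_right ?_ ?_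
      · exact Nat.Coprime.symm ((Nat.prime_two.coprime_iff_not_dvd).mpr (by
          have := Nat.odd_iff.mp (hy.odd_cc hz.1); omega))
      · have : cc z = 1 + c * k := by rw [mul_comm c]; omega
        rw [this]
        simp
    obtain ⟨d, hd⟩ := hd
    obtain ⟨W, hW⟩ := hy.exists_norm_index hz
    have hWK : Nat.card W ≤ k := Subgroup.card_le_of_le (fun w hw => ((hW w).mp hw).1)
    have ho := hy.orbit_le hz hW
    have hLle : LL t K (cc z) ≤ k * (k + 4) := hL ▸ card_le_of_imp fun g h => h.1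
    have hle : 2 * (cc z - 1) ≤ k * (k + 4) := by
      refine Nat.le_of_mul_le_mul_left ?_ (show 0 < k by omega)
      calc k * (2 * (cc z - 1)) = 2 * k * (cc z - 1) := by ring
        _ ≤ _ := ho
        _ ≤ k * (k * (k + 4)) := Nat.mul_le_mul hWK hLle
    have hc' : cc z = 1 + c * k := by rw [mul_comm c]; omega
    have hd1 : 1 ≤ d := Nat.pos_of_ne_zero fun e => by subst e; simp at hd
    have hde : ∃ e, d = 1 + e * k := by
      obtain ⟨e, he⟩ : k ∣ d - 1 := by
        have e1 : c * k * d + (d - 1) = k * (2 * k + 3) := by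
          have hd' : (2 * k + 1) * (k + 1) = (1 + c * k) * d := hc' ▸ hd
          have : c * k * d + d = k * (2 * k + 3) + 1 := by
            calc c * k * d + d = (1 + c * k) * d := by ring
              _ = _ := by rw [← hd']; ring
          omega
        exact (Nat.dvd_add_right (Dvd.intro_left c rfl |>.mul_right d)).mp (e1 ▸ Dvd.intro _ rfl)
      exact ⟨e, by rw [mul_comm e]; omega⟩
    obtain ⟨e, he⟩ := hde
    refine size_arith (c := c) (e := e) (d := d) hk2 ?_ hc' he hd.symm hle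
    exact Nat.pos_of_ne_zero fun e' => by subst e'; simp at hc'; omega
  have hne : k + 1 ≠ 2 * k + 1 := by omega
  have hLsum : LL t K (k + 1) + LL t K (2 * k + 1) = k * (k + 4) := by
    rw [← Finset.sum_pair hne, sum_LL, ← hL]
    exact Nat.card_congr (Equiv.subtypeEquivRight fun z =>
      ⟨fun h => h.1, fun h => ⟨h, by simpa using hsize z h⟩⟩)
  have hNsum : NN K (k + 1) + NN K (2 * k + 1) = Nat.card {g : G // ¬ InK K g} := by
    rw [← Finset.sum_pair hne, sum_NN]
    refine Nat.card_congr (Equiv.subtypeEquivRight fun g => ⟨fun h => h.1, fun h => ⟨h, (hout g h).1, ?_⟩⟩)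
    obtain ⟨a, ha⟩ := hy.exists_sr h (hout g h).1
    have := hsize _ ha
    rw [cc_conj] at this
    simpa using this
  have hm1 := hy.mul_NN (k + 1)
  have hm2 := hy.mul_NN (2 * k + 1)
  rw [← hIdef, hI] at hm1 hm2
  have hN1 : NN K (k + 1) = (2 * k + 1) * LL t K (k + 1) :=
    Nat.eq_of_mul_eq_mul_left (show 0 < k + 1 by omega) (by rw [hm1]; ring)
  have hN2 : NN K (2 * k + 1) = (k + 1) * LL t K (2 * k + 1) :=
    Nat.eq_of_mul_eq_mul_left (show 0 < 2 * k + 1 by omega) (by rw [hm2]; ring)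
  have hNO : Nat.card {g : G // ¬ InK K g} + 1 = (2 * k + 1) * (k + 1) * (k + 1) := by
    have h1 := hy.card_outside
    have h2 := hy.card_inK
    rw [← hk] at h2
    have h3 : Nat.card {g : G // g ≠ 1 ∧ InK K g} = (2 * k + 1) * (k + 1) * (k - 1) := by
      refine Nat.eq_of_mul_eq_mul_right (show 0 < 2 * k by omega) ?_
      rw [h2, hG]; ring
    rw [h3, hG] at h1
    obtain ⟨m, hm⟩ : ∃ m, k = m + 1 := ⟨k - 1, by omega⟩
    rw [hm] at h1 ⊢
    rw [Nat.add_sub_cancel] at h1
    linarith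
  have hLq : LL t K (2 * k + 1) = 4 * k := by
    rw [← hNsum, hN1, hN2] at hNO
    refine Nat.eq_of_mul_eq_mul_left (show 0 < k by omega) ?_
    linear_combination (2 * k + 1) * hLsum - hNO
  obtain ⟨⟨z, hz, hzq⟩⟩ := (Nat.card_ne_zero.mp (show LL t K (2 * k + 1) ≠ 0 by omega)).1
  obtain ⟨W, hW⟩ := hy.exists_norm_index hz
  have hWK : W = K := by
    refine Subgroup.eq_of_le_of_card_ge (fun w hw => ((hW w).mp hw).1) ?_
    have ho := hy.orbit_le hz hW
    rw [hzq, hLq, ← hk, Nat.add_sub_cancel] at ho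
    exact Nat.le_of_mul_le_mul_right (c := 4 * k) (by
      calc k * (4 * k) = 2 * k * (2 * k) := by ring
        _ ≤ _ := ho) (by omega)
  have hQcard : Nat.card (Subgroup.centralizer ({z} : Set G)) = 2 * k + 1 := hzq
  refine ⟨Subgroup.centralizer ({z} : Set G), K, ?_, fun x hx hx1 => hy.cent_eq_of_mem hz hx hx1,
    ⟨⟨fun a b => Subtype.ext (hy.comm _ a.2 _ b.2)⟩⟩, by rw [hQcard], ?_, ?_, ?_⟩
  · rw [hG, hQcard, Nat.add_sub_cancel]; ring
  · rw [eq_bot_iff]
    intro x hx
    exact Subgroup.mem_bot.mpr (hy.fpf hz (Subgroup.mem_centralizer_singleton_iff.mp hx.1)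
      (hy.K_comm_t hx.2))
  · refine le_antisymm (fun n hn => ?_) (sup_le Subgroup.le_normalizer fun w hw => ?_)
    · have h1 : (n * z * n⁻¹) * z = z * (n * z * n⁻¹) := Subgroup.mem_centralizer_singleton_iff.mp
        ((Subgroup.mem_normalizer_iff.mp hn z).mp (Subgroup.mem_centralizer_singleton_iff.mpr rfl))
      obtain ⟨c, hcz, hct, hcn⟩ := hy.norm_decomp hz h1
      have hcK := hy.norm_mem_K hz hct hcn
      have : n = c⁻¹ * (c * n) := by group
      rw [this]
      exact Subgroup.mul_mem _ (Subgroup.mem_sup_left (Subgroup.inv_mem _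
        (Subgroup.mem_centralizer_singleton_iff.mpr hcz))) (Subgroup.mem_sup_right hcK)
    · have hwn : ∀ v ∈ K, ∀ x ∈ Subgroup.centralizer ({z} : Set G),
          v * x * v⁻¹ ∈ Subgroup.centralizer ({z} : Set G) := fun v hv x hx =>
        Subgroup.mem_centralizer_singleton_iff.mpr (hy.norm_smul hz ((hW v).mp (hWK ▸ hv)).2
          (Subgroup.mem_centralizer_singleton_iff.mp hx))
      rw [Subgroup.mem_normalizer_iff]
      intro x
      refine ⟨hwn w hw x, fun h => ?_⟩
      have := hwn w⁻¹ (K.inv_mem hw) _ h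
      rwa [show w⁻¹ * (w * x * w⁻¹) * w⁻¹⁻¹ = x by group] at this
  · intro X hX hne'
    have hK : K ≠ ⊥ := fun e => hy.tne (Subgroup.mem_bot.mp (e ▸ hy.htK))
    refine ⟨(hy.normalizer_eq hX hne').trans (hy.normalizer_eq le_rfl hK).symm, s, hy.hs, hy.hsK,
      hy.hinv, ?_⟩
    rw [hy.normalizer_eq le_rfl hK, hy.hH]

end Hyp

end Cfsg.Agent.BSW
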