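import Mathlib
import Cfsg.Agent.Lib.Recog.BSW.Plus
import Cfsg.Agent.Lib.Recog.BSW.FrobLemma
import Cfsg.Agent.Lib.CT.Orthogonality

/-!
# Brauer–Suzuki–Wall: the case `|G| = 2k(2k-1)(k-1)`
-/

set_option autoImplicit false
set_option linter.all false

namespace Cfsg.Agent.BSW

variable {G : Type*} [Group G] [Finite G]

theorem conj_into {p : ℕ} [Fact p.Prime] {B : Subgroup G} (hB : ¬ p ∣ B.index) {y : G}
    (hy : orderOf y = p) : ∃ h : G, h * y * h⁻¹ ∈ B := by
  classical
  obtain ⟨S₀⟩ := (inferInstance : Nonempty (Sylow p B))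
  have hc : Nat.card ((S₀ : Subgroup B).map B.subtype) = p ^ (Nat.card G).factorization p := by
    rw [Subgroup.card_map_of_injective B.subtype_injective, S₀.card_eq_multiplicity,
      ← B.card_mul_index, Nat.factorization_mul Nat.card_pos.ne' Subgroup.index_ne_zero_of_finite,
      Finsupp.add_apply, Nat.factorization_eq_zero_of_not_dvd hB, Nat.add_zero]
  set S := Sylow.ofCard _ hc with hS
  obtain ⟨S', hS'⟩ := (IsPGroup.of_card (n := 1) (by rw [Nat.card_zpowers, hy, pow_one]) :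
    IsPGroup p (Subgroup.zpowers y)).exists_le_sylow
  obtain ⟨g, hg⟩ := MulAction.exists_smul_eq G S' S
  refine ⟨g, ?_⟩
  have h1 : g * y * g⁻¹ ∈ ((g • S' : Sylow p G) : Subgroup G) := by
    rw [Sylow.coe_subgroup_smul]
    exact ⟨y, hS' (Subgroup.mem_zpowers y), rfl⟩
  rw [hg, hS, Sylow.coe_ofCard] at h1
  obtain ⟨b, -, hb⟩ := h1
  exact hb ▸ b.2

theorem prime_dvd_pow_card {r n p : ℕ} (hr : r.Prime) (hp : p.Prime) (h : p ∣ r ^ n) : p = r :=
  (Nat.prime_dvd_prime_iff_eq hp hr).mp (hp.dvd_of_dvd_pow h)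

variable {t : G} {K : Subgroup G} {s : G}

namespace Hyp

variable (hy : Hyp t K s)
include hy

theorem nn_ne_of_sr {g h : G} (hh : SR t K (h * g * h⁻¹)) : nn g ≠ 0 := by
  rw [← nn_conj h g, hy.nn_sr hh]
  exact Nat.card_pos.ne'

theorem nn_comm {y g : G} (hy1 : y ≠ 1) (hyK : ¬ InK K y) (hyn : nn y ≠ 0) (hg1 : g ≠ 1)
    (h : g * y = y * g) : nn g ≠ 0 := by
  obtain ⟨a, ha⟩ := hy.exists_sr hyK hyn
  refine hy.nn_ne_of_sr (h := a) (hy.sr_cent ha ?_ (conj_ne' hg1))
  calc a * g * a⁻¹ * (a * y * a⁻¹) = a * (g * y) * a⁻¹ := by group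
    _ = a * (y * g) * a⁻¹ := by rw [h]
    _ = _ := by group

/-- An element outside conjugate to its inverse is inverted by an involution. -/
theorem nn_of_weak {g h : G} (hg : ¬ InK K g) (hh : h * g * h⁻¹ = g⁻¹) : nn g ≠ 0 := by
  classical
  have hg1 : g ≠ 1 := fun e => hg (e ▸ inK_one K)
  have hgg : g * g ≠ 1 := fun e => hg (hy.inK_invol (orderOf_two e hg1))
  have h2 : h * h * g = g * (h * h) := by
    rw [← mul_inv_eq_iff_eq_mul]
    calc h * h * g * (h * h)⁻¹ = h * (h * g * h⁻¹) * h⁻¹ := by group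
      _ = h * g⁻¹ * h⁻¹ := by rw [hh]
      _ = (h * g * h⁻¹)⁻¹ := by group
      _ = g := by rw [hh, inv_inv]
  have hodd : Odd (orderOf (h * h)) := by
    have hm : h * h ∈ Subgroup.centralizer ({g} : Set G) :=
      Subgroup.mem_centralizer_singleton_iff.mpr h2
    have hdvd : orderOf (h * h) ∣ cc g := by
      rw [cc, ← Subgroup.orderOf_mk _ hm]; exact orderOf_dvd_natCard _
    exact (hy.odd_cc hg).of_dvd_nat hdvd
  obtain ⟨j, hj⟩ := hodd
  set u := h ^ (2 * j + 1) with hu
  have hu2 : u * u = 1 := by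
    rw [hu, ← pow_add, ← two_mul, pow_mul, pow_two, ← hj, pow_orderOf_eq_one]
  have hug : u * g * u⁻¹ = g⁻¹ := by
    have hc : ∀ i : ℕ, (h * h) ^ i * g = g * (h * h) ^ i := fun i =>
      ((show Commute (h * h) g from h2).pow_left i).eq
    have e : u = h * (h * h) ^ j := by
      rw [hu, pow_succ', ← pow_two, ← pow_mul]
    calc u * g * u⁻¹ = h * ((h * h) ^ j * g) * ((h * h) ^ j)⁻¹ * h⁻¹ := by rw [e]; group
      _ = h * g * h⁻¹ := by rw [hc j]; group
      _ = g⁻¹ := hh
  have hu1 : u ≠ 1 := by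
    intro e
    rw [e, one_mul, inv_one, mul_one] at hug
    exact hgg (by nth_rw 1 [hug]; exact inv_mul_cancel g)
  refine Nat.card_ne_zero.mpr ⟨⟨⟨u, orderOf_two hu2 hu1, orderOf_two ?_ ?_⟩⟩, inferInstance⟩
  · have e : u * g = g⁻¹ * u := mul_inv_eq_iff_eq_mul.mp hug
    calc g * u * (g * u) = g * (u * g) * u := by group
      _ = g * (g⁻¹ * u) * u := by rw [e]
      _ = u * u := by group
      _ = 1 := hu2
  · intro e
    refine hg ?_
    rw [eq_inv_of_mul_eq_one_left e, inv_eq_of_mul_eq_one_right hu2]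
    exact hy.inK_invol (orderOf_two hu2 hu1)

theorem minus_sizes (hM : MinusCase t K) {z : G} (hz : SR t K z) :
    cc z = Nat.card K - 1 ∧ ∀ w ∈ K, (w * z * w⁻¹) * z = z * (w * z * w⁻¹) → w = 1 ∨ w = t := by
  classical
  obtain ⟨hG, hL, hout⟩ := hM
  set k := Nat.card K with hk
  have hk2 : 3 ≤ k := by
    have hpos : 0 < Nat.card {z : G // SR t K z} :=
      Nat.pos_of_ne_zero (Nat.card_ne_zero.mpr ⟨⟨⟨z, hz⟩⟩, inferInstance⟩)
    rw [hL] at hpos
    have := Nat.pos_of_mul_pos_left hpos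
    omega
  obtain ⟨W, hW⟩ := hy.exists_norm_index hz
  obtain ⟨c, hc⟩ : k - 1 ∣ cc z := hy.nn_sr hz ▸ hout z hz.1
  have hcpos : 0 < cc z := Nat.card_pos
  have hc0 : 0 < c := Nat.pos_of_ne_zero fun e => by subst e; simp at hc; omega
  have hWK : W ≤ K := fun w hw => ((hW w).mp hw).1
  have hwk : Nat.card W ∣ k := Subgroup.card_dvd_of_le hWK
  have hwa := hy.w_dvd hz hW
  have htW : t ∈ W := (hW t).mpr ⟨hy.htK, hy.t_mem_norm hz⟩
  have hw2 : 2 ∣ Nat.card W := by
    have := orderOf_dvd_natCard (⟨t, htW⟩ : W)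
    rwa [Subgroup.orderOf_mk, hy.ht] at this
  set w := Nat.card W with hw
  have hwpos : 0 < w := Nat.card_pos
  have hwc : w ∣ c + 1 := by
    have h1 : cc z - 1 + (c + 1) = k * c := by
      obtain ⟨m, hm⟩ : ∃ m, k = m + 1 := ⟨k - 1, by omega⟩
      rw [hm, Nat.add_sub_cancel] at hc
      rw [hm, add_mul, one_mul]
      omega
    exact (Nat.dvd_add_right hwa).mp (h1 ▸ hwk.mul_right c)
  have hwle : w ≤ c + 1 := Nat.le_of_dvd (by omega) hwc
  have hLle : LL t K (cc z) ≤ k * (k - 2) := hL ▸ card_le_of_imp fun g h => h.1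
  have ho := hy.orbit_le hz hW
  rw [← hw, ← hk] at ho
  have h2 : 2 * (cc z - 1) ≤ w * (k - 2) := by
    refine Nat.le_of_mul_le_mul_left ?_ (show 0 < k by omega)
    calc k * (2 * (cc z - 1)) = 2 * k * (cc z - 1) := by ring
      _ ≤ w * LL t K (cc z) := ho
      _ ≤ w * (k * (k - 2)) := Nat.mul_le_mul_left _ hLle
      _ = k * (w * (k - 2)) := by ring
  have hfin : w = 2 ∧ c = 1 := by
    obtain ⟨m, hm⟩ : ∃ m, k = m + 3 := ⟨k - 3, by omega⟩
    rw [hm, show m + 3 - 1 = m + 2 by omega] at hc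
    rw [hc, hm, show m + 3 - 2 = m + 1 by omega] at h2
    have h3 : 2 * ((m + 2) * c) ≤ w * (m + 1) + 2 := by omega
    obtain ⟨v, hv⟩ : ∃ v, w = v + 2 := ⟨w - 2, by have := Nat.le_of_dvd hwpos hw2; omega⟩
    have h4 : (m + 2) * (v + 1) ≤ (m + 2) * c := Nat.mul_le_mul_left _ (by omega)
    rw [hv] at h3
    have hv0 : v = 0 := by
      by_contra hne
      have h5 : (v + 2) * (m + 1) + 2 < 2 * ((m + 2) * (v + 1)) := by
        have h6 : 0 < v := Nat.pos_of_ne_zero hne
        nlinarith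
      omega
    subst hv0
    refine ⟨hv, ?_⟩
    have h5 : (m + 2) * c < (m + 2) * 2 := by omega
    have := Nat.lt_of_mul_lt_mul_left h5
    omega
  refine ⟨by rw [hc, hfin.2, mul_one], fun v hv hvz => ?_⟩
  have hvW : v ∈ W := (hW v).mpr ⟨hv, hvz⟩
  have h2' : (⟨v, hvW⟩ : W) * ⟨v, hvW⟩ = 1 := by
    have := pow_card_eq_one' (x := (⟨v, hvW⟩ : W))
    rwa [← hw, hfin.1, pow_two] at this
  exact hy.sq_eq_one hv (congrArg Subtype.val h2')

/-- The properties of an element used to build a Frobenius complement. -/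
def _root_.Cfsg.Agent.BSW.Good (r : ℕ) (d : G) : Prop :=
  (∀ y, y * d = d * y → Odd (orderOf y) → y ≠ 1 → ∀ x, x * y = y * x → x * d = d * x) ∧
  (∀ n, (n * d * n⁻¹) * d = d * (n * d * n⁻¹) → (n * n) * d = d * (n * n)) ∧
  ¬ r ∣ cc d

theorem good_of_conj {r : ℕ} {d : G} (h : G) (hg : Good r (h * d * h⁻¹)) : Good r d := by
  obtain ⟨h1, h2, h3⟩ := hg
  set σ := MulAut.conj h
  have e : ∀ a : G, σ a = h * a * h⁻¹ := fun a => rfl
  refine ⟨fun y hyd hodd hy1 x hxy => ?_, fun n hn => ?_, by rwa [cc_conj] at h3⟩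
  · apply σ.injective
    rw [map_mul, map_mul]
    refine h1 (σ y) (by rw [← e, ← map_mul, hyd, map_mul]) (by rwa [MulEquiv.orderOf_eq])
      (fun h' => hy1 (σ.injective (h'.trans (map_one σ).symm))) (σ x) ?_
    rw [← map_mul, hxy, map_mul]
  · apply σ.injective
    rw [map_mul σ (n * n) d, map_mul σ d (n * n), map_mul σ n n]
    refine h2 (σ n) ?_
    rw [← e, ← map_inv, ← map_mul, ← map_mul, ← map_mul, hn, map_mul]

theorem minus_goal (hM : MinusCase t K) : Goal G := by
  classical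
  have hsize := fun (z : G) (hz : SR t K z) => hy.minus_sizes hM hz
  obtain ⟨hG, hL, hout⟩ := hM
  set k := Nat.card K with hk
  have hkev := hy.two_dvd_card
  rw [← hk] at hkev
  obtain ⟨M, hMdef⟩ : ∃ M, k = M + 1 := ⟨k - 1, by have := hy.two_le_card; omega⟩
  obtain ⟨q, hqdef⟩ : ∃ q, q = 2 * M + 1 := ⟨_, rfl⟩
  have hM1 : 1 ≤ M := by have := hy.two_le_card; omega
  rw [hMdef] at hG hL hout
  rw [Nat.add_sub_cancel] at hG hout
  have hG' : Nat.card G = 2 * (M + 1) * q * M := by
    rw [hG, show 2 * (M + 1) - 1 = q by omega]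
  have hMk : k - 1 = M := by omega
  -- coprimality
  have hqM : ∀ p : ℕ, p.Prime → p ∣ q → ¬ p ∣ M := fun p hp h1 h2 => by
    have : p ∣ 1 := (Nat.dvd_add_right (h2.mul_left 2)).mp (hqdef ▸ h1)
    exact hp.ne_one (Nat.dvd_one.mp this)
  have hqk : ∀ p : ℕ, p.Prime → p ∣ q → ¬ p ∣ 2 * (M + 1) := fun p hp h1 h2 => by
    have e : q + 1 = 2 * (M + 1) := by omega
    have : p ∣ 1 := (Nat.dvd_add_right h1).mp (e ▸ h2)
    exact hp.ne_one (Nat.dvd_one.mp this)
  have hMk' : ∀ p : ℕ, p.Prime → p ∣ M → ¬ p ∣ (M + 1) := fun p hp h1 h2 =>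
    hp.ne_one (Nat.dvd_one.mp ((Nat.dvd_add_right h1).mp h2))
  -- counting
  obtain ⟨I, hIdef⟩ : ∃ I, I = Nat.card {y : G // orderOf y = 2} := ⟨_, rfl⟩
  have hI : I = q * M := by
    have h := hy.card_G
    rw [hG', ← hk, ← hIdef, hMdef] at h
    refine Nat.eq_of_mul_eq_mul_left (show 0 < 2 * (M + 1) by omega) ?_
    rw [← h]; ring
  have hLM : LL t K M = (M + 1) * (M + 1 - 2) := by
    rw [← hL]
    exact Nat.card_congr (Equiv.subtypeEquivRight fun z =>
      ⟨fun h => h.1, fun h => ⟨h, (hsize z h).1.trans hMk⟩⟩)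
  have hNN : NN K M = q * ((M + 1) * (M + 1 - 2)) := by
    have h := hy.mul_NN M
    rw [← hIdef, hI, hLM] at h
    exact Nat.eq_of_mul_eq_mul_left hM1 (by rw [h]; ring)
  obtain ⟨P, hP⟩ : ∃ P : G → Prop, ∀ g, P g ↔ ¬ InK K g ∧ nn g = 0 := ⟨_, fun g => Iff.rfl⟩
  have hsplit : Nat.card {g : G // P g} + NN K M = Nat.card {g : G // ¬ InK K g} := by
    rw [NN, ← Nat.card_sum]
    refine Nat.card_congr (((Equiv.sumCompl fun g : {g : G // ¬ InK K g} => nn g.1 = 0).symm.trans
      (Equiv.sumCongr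
        ((Equiv.subtypeSubtypeEquivSubtypeInter _ (fun g => nn g = 0)).trans
          (Equiv.subtypeEquivRight fun g => (hP g).symm))
        ((Equiv.subtypeSubtypeEquivSubtypeInter _ (fun g => ¬ nn g = 0)).trans
          (Equiv.subtypeEquivRight fun g => ⟨fun h => ⟨h.1, h.2, ?_⟩, fun h => ⟨h.1, h.2.1⟩⟩)))).symm)
    obtain ⟨a, ha⟩ := hy.exists_sr h.1 h.2
    rw [← cc_conj a, (hsize _ ha).1, hMk]
  have hPcard : Nat.card {g : G // P g} = 4 * (M + 1) * M := by
    have h1 := hy.card_outside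
    have h2 := hy.card_inK
    rw [← hk, hMdef, Nat.add_sub_cancel] at h2
    have h3 : Nat.card {g : G // g ≠ 1 ∧ InK K g} = q * M * M := by
      refine Nat.eq_of_mul_eq_mul_right (show 0 < 2 * (M + 1) by omega) ?_
      rw [h2, hG']; ring
    rw [← hsplit, hNN, h3, hG'] at h1
    obtain ⟨j, rfl⟩ : ∃ j, M = j + 1 := ⟨M - 1, by omega⟩
    subst hqdef
    rw [show j + 1 + 1 - 2 = j by omega] at h1
    linear_combination h1
  -- elements of prime order
  have hprime : ∀ y : G, ∀ p : ℕ, p.Prime → orderOf y = p → P y → p ∣ q := by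
    intro y p hp hyp hPy
    haveI : Fact p.Prime := ⟨hp⟩
    obtain ⟨hyK, hyn⟩ := (hP y).mp hPy
    have hy1 : y ≠ 1 := fun e => hyK (e ▸ inK_one K)
    by_contra hq
    have hp2 : ¬ p ∣ 2 := fun h => hyK (hy.inK_invol (hyp.trans ((Nat.prime_dvd_prime_iff_eq hp Nat.prime_two).mp h)))
    have hd : p ∣ 2 * (M + 1) * q * M := hG' ▸ hyp ▸ orderOf_dvd_natCard y
    by_cases hpM : p ∣ M
    · have hLpos : Nat.card {z : G // SR t K z} ≠ 0 := by
        have : 2 ≤ M := by
          rcases Nat.lt_or_ge M 2 with h | h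
          · exact absurd (Nat.le_of_dvd (by omega) hpM) (by have := hp.two_le; omega)
          · exact h
        rw [hL]
        exact (Nat.mul_pos (by omega) (by omega)).ne'
      obtain ⟨⟨z, hz⟩⟩ := (Nat.card_ne_zero.mp hLpos).1
      have hCc : Nat.card (Subgroup.centralizer ({z} : Set G)) = M := (hsize z hz).1.trans hMk
      have hidx : ¬ p ∣ (Subgroup.centralizer ({z} : Set G)).index := by
        have hi := (Subgroup.centralizer ({z} : Set G)).index_mul_card
        rw [hCc, hG'] at hi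
        rw [Nat.eq_of_mul_eq_mul_right hM1 hi]
        intro h
        rcases hp.dvd_mul.mp h with h' | h'
        · rcases hp.dvd_mul.mp h' with h'' | h''
          · exact hp2 h''
          · exact hMk' p hp hpM h''
        · exact hq h'
      obtain ⟨a, ha⟩ := conj_into hidx hyp
      exact hy.nn_ne_of_sr (hy.sr_cent hz (Subgroup.mem_centralizer_singleton_iff.mp ha)
        (conj_ne' hy1)) hyn
    · have hidx : ¬ p ∣ K.index := by
        have hi := K.index_mul_card
        rw [← hk, hMdef, hG'] at hi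
        have : K.index = 2 * q * M := Nat.eq_of_mul_eq_mul_right (show 0 < M + 1 by omega)
          (by rw [hi]; ring)
        rw [this]
        intro h
        rcases hp.dvd_mul.mp h with h' | h'
        · exact (hp.dvd_mul.mp h').elim hp2 hq
        · exact hpM h'
      exact hyK (conj_into hidx hyp)
  -- commuting with such an element
  have hPcomm : ∀ g y : G, P g → y ≠ 1 → y * g = g * y → P y := by
    intro g y hPg hy1 h
    obtain ⟨hgK, hgn⟩ := (hP g).mp hPg
    have hg1 : g ≠ 1 := fun e => hgK (e ▸ inK_one K)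
    refine (hP y).mpr ⟨hy.notInK_cent hgK hy1 h, by_contra fun hn => ?_⟩
    exact hy.nn_comm hy1 (hy.notInK_cent hgK hy1 h) hn hg1 h.symm hgn
  have hccP : ∀ g : G, P g → cc g ∣ q := by
    intro g hPg
    have h1 : cc g ∣ q * (2 * (M + 1) * M) := by
      have := cc_dvd g
      rw [hG'] at this
      rwa [show q * (2 * (M + 1) * M) = 2 * (M + 1) * q * M by ring]
    refine Nat.Coprime.dvd_of_dvd_mul_right (Nat.coprime_of_dvd fun p hp hp1 hp2 => ?_) h1
    haveI : Fact p.Prime := ⟨hp⟩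
    obtain ⟨y, hy'⟩ := exists_prime_orderOf_dvd_card' (G := Subgroup.centralizer ({g} : Set G)) p hp1
    have hyG : orderOf (y : G) = p := by rw [Subgroup.orderOf_coe, hy']
    have hy1 : (y : G) ≠ 1 := fun e => hp.ne_one (by rw [← hyG, e, orderOf_one])
    have hq := hprime y p hp hyG (hPcomm g y hPg hy1 (Subgroup.mem_centralizer_singleton_iff.mp y.2))
    rcases hp.dvd_mul.mp hp2 with h | h
    · exact hqk p hp hq h
    · exact hqM p hp hq h
  -- exactly two classes
  obtain ⟨⟨g₀, hg₀⟩⟩ := (Nat.card_ne_zero.mp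
    (show Nat.card {g : G // P g} ≠ 0 by rw [hPcard]; exact (Nat.mul_pos (by omega) hM1).ne')).1
  have hg₀' := (hP g₀).mp hg₀
  have hPconj : ∀ a g : G, P g → P (a * g * a⁻¹) := by
    intro a g h
    rw [hP, inK_conj_iff, nn_conj]
    exact (hP g).mp h
  have hPinv : ∀ g : G, P g → P g⁻¹ := fun g h => by
    refine hPcomm g g⁻¹ h ?_ ((Commute.inv_left (Commute.refl g)).eq)
    intro e
    exact ((hP g).mp h).1 (by rw [inv_eq_one.mp e]; exact inK_one K)
  haveI := Fintype.ofFinite G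
  have hclass : ∀ g : G, P g → 2 * (M + 1) * M ≤ Nat.card {x : G // IsConj g x} ∧
      (Nat.card {x : G // IsConj g x} = 2 * (M + 1) * M → cc g = q) := by
    intro g hg
    have h1 : Nat.card {x : G // IsConj g x} * cc g = 2 * (M + 1) * M * q := by
      rw [cc, CT.card_conj_class_mul_centralizer, hG']; ring
    have h2 : cc g ≤ q := Nat.le_of_dvd (by omega) (hccP g hg)
    refine ⟨?_, fun h => Nat.eq_of_mul_eq_mul_left (Nat.mul_pos (by omega) hM1) (h ▸ h1)⟩
    refine Nat.le_of_mul_le_mul_right (c := q) ?_ (by omega)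
    rw [← h1]
    exact Nat.mul_le_mul_left _ h2
  have hpair : ∀ g : G, P g → cc g = q ∧ ∀ x, P x → IsConj g x ∨ IsConj g⁻¹ x := by
    intro g hg
    have hd : ∀ x, IsConj g x → ¬ IsConj g⁻¹ x := by
      intro x h1 h2
      obtain ⟨a, ha⟩ := isConj_iff.mp (h1.trans h2.symm)
      exact hy.nn_of_weak ((hP g).mp hg).1 ha ((hP g).mp hg).2
    let f : {x : G // IsConj g x} ⊕ {x : G // IsConj g⁻¹ x} → {x : G // P x} := fun z => match z with
      | Sum.inl x => ⟨x.1, by obtain ⟨a, ha⟩ := isConj_iff.mp x.2; exact ha ▸ hPconj a g hg⟩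
      | Sum.inr x => ⟨x.1, by obtain ⟨a, ha⟩ := isConj_iff.mp x.2; exact ha ▸ hPconj a _ (hPinv g hg)⟩
    have hf : Function.Injective f := by
      rintro (x | x) (y | y) h <;> have h' := congrArg Subtype.val h <;> simp only [f] at h'
      · rw [Subtype.ext h']
      · exact absurd y.2 (h' ▸ hd x.1 x.2)
      · exact absurd x.2 (h'.symm ▸ hd y.1 y.2)
      · rw [Subtype.ext h']
    have hle := Nat.card_le_card_of_injective f hf
    rw [Nat.card_sum, hPcard] at hle
    have e4 : 4 * (M + 1) * M = 2 * (M + 1) * M + 2 * (M + 1) * M := by ring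
    have b1 := hclass g hg
    have b2 := hclass g⁻¹ (hPinv g hg)
    refine ⟨b1.2 (by omega), fun x hx => ?_⟩
    haveI := Fintype.ofFinite {x : G // P x}
    have hbij : Function.Bijective f := by
      refine (Nat.bijective_iff_injective_and_card f).mpr ⟨hf, ?_⟩
      rw [Nat.card_sum, hPcard]
      omega
    obtain ⟨y, hy'⟩ := hbij.2 ⟨x, hx⟩
    rcases y with y | y
    · exact Or.inl ((show y.1 = x from congrArg Subtype.val hy') ▸ y.2)
    · exact Or.inr ((show y.1 = x from congrArg Subtype.val hy') ▸ y.2)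
  -- the prime
  obtain ⟨r, hrdef⟩ : ∃ r, r = orderOf g₀ := ⟨_, rfl⟩
  have horder : ∀ x : G, P x → orderOf x = r := by
    intro x hx
    rcases (hpair g₀ hg₀).2 x hx with h | h <;> obtain ⟨a, ha⟩ := isConj_iff.mp h <;>
      rw [← ha, orderOf_conj, hrdef]
    rw [orderOf_inv]
  have hg₀1 : g₀ ≠ 1 := fun e => hg₀'.1 (e ▸ inK_one K)
  have hrprime : r.Prime := by
    have hr1 : r ≠ 1 := fun e => hg₀1 (orderOf_eq_one_iff.mp (hrdef ▸ e))
    have hp := Nat.minFac_prime hr1
    set p := r.minFac with hpdef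
    obtain ⟨m, hm⟩ := Nat.minFac_dvd r
    have hm0 : 0 < m := by
      rcases Nat.eq_zero_or_pos m with h | h
      · subst h; simp [hrdef, (orderOf_pos g₀).ne'] at hm
      · exact h
    have ho : orderOf (g₀ ^ m) = p := by
      rw [orderOf_pow' _ hm0.ne', ← hrdef, hm, Nat.gcd_mul_left_left, Nat.mul_div_cancel _ hm0]
    have h1 : g₀ ^ m ≠ 1 := fun e => hp.ne_one (by rw [← ho, e, orderOf_one])
    have := horder _ (hPcomm g₀ _ hg₀ h1 ((Commute.refl g₀).pow_left m).eq)
    rw [ho] at this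
    exact this ▸ hp
  haveI : Fact r.Prime := ⟨hrprime⟩
  have hrq : r ∣ q := hprime g₀ r hrprime hrdef.symm hg₀
  have hK_order : ∀ y : G, InK K y → orderOf y ∣ 2 * (M + 1) := by
    rintro y ⟨a, ha⟩
    rw [← orderOf_conj a y, ← Subgroup.orderOf_mk _ ha]
    exact (orderOf_dvd_natCard _).trans (by rw [← hk, hMdef]; exact Dvd.intro_left 2 rfl)
  have hSR_order : ∀ y : G, ¬ InK K y → nn y ≠ 0 → orderOf y ∣ M := by
    intro y h1 h2
    obtain ⟨a, ha⟩ := hy.exists_sr h1 h2
    rw [← orderOf_conj a y, ← Subgroup.orderOf_mk (H := Subgroup.centralizer ({a * y * a⁻¹} : Set G))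
      _ (Subgroup.mem_centralizer_singleton_iff.mpr rfl)]
    exact (orderOf_dvd_natCard _).trans (dvd_of_eq ((hsize _ ha).1.trans hMk))
  have hP_of_dvd : ∀ y : G, y ≠ 1 → orderOf y ∣ q → P y := by
    intro y hy1 hd
    have hne : orderOf y ≠ 1 := fun e => hy1 (orderOf_eq_one_iff.mp e)
    have hp := Nat.minFac_prime hne
    have hpq : (orderOf y).minFac ∣ q := (Nat.minFac_dvd _).trans hd
    refine (hP y).mpr ⟨fun h => hqk _ hp hpq ((Nat.minFac_dvd _).trans (hK_order y h)),
      by_contra fun h => ?_⟩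
    have hyK : ¬ InK K y := fun h' => hqk _ hp hpq ((Nat.minFac_dvd _).trans (hK_order y h'))
    exact hqM _ hp hpq ((Nat.minFac_dvd _).trans (hSR_order y hyK h))
  have hqpow : ∃ n, q = r ^ n := by
    refine ⟨q.primeFactorsList.length, Nat.eq_prime_pow_of_unique_prime_dvd (by omega) fun {p} hp hpd => ?_⟩
    haveI : Fact p.Prime := ⟨hp⟩
    obtain ⟨y, hy'⟩ := exists_prime_orderOf_dvd_card' (G := G) p
      (hG' ▸ (hpd.mul_left (2 * (M + 1))).mul_right M)
    have hy1 : y ≠ 1 := fun e => hp.ne_one (by rw [← hy', e, orderOf_one])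
    rw [← hy', horder y (hP_of_dvd y hy1 (hy' ▸ hpd))]
  obtain ⟨n, hn⟩ := hqpow
  have hP_of_r : ∀ y : G, y ≠ 1 → (∃ m : ℕ, orderOf y = r ^ m) → P y := by
    rintro y hy1 ⟨m, hm⟩
    have hne : orderOf y ≠ 1 := fun e => hy1 (orderOf_eq_one_iff.mp e)
    have hp := Nat.minFac_prime hne
    have hpr : (orderOf y).minFac = r := prime_dvd_pow_card hrprime hp
      ((Nat.minFac_dvd (orderOf y)).trans (dvd_of_eq hm))
    refine (hP y).mpr ⟨fun h => ?_, by_contra fun h => ?_⟩
    · exact hqk r hrprime hrq (hpr ▸ (Nat.minFac_dvd _).trans (hK_order y h))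
    · by_cases hyK : InK K y
      · exact hqk r hrprime hrq (hpr ▸ (Nat.minFac_dvd _).trans (hK_order y hyK))
      · exact hqM r hrprime hrq (hpr ▸ (Nat.minFac_dvd _).trans (hSR_order y hyK h))
  have hfac : (Nat.card G).factorization r = n := by
    have hnd : ¬ r ∣ 2 * (M + 1) * M := fun h =>
      (hrprime.dvd_mul.mp h).elim (hqk r hrprime hrq) (hqM r hrprime hrq)
    rw [hG', show 2 * (M + 1) * q * M = q * (2 * (M + 1) * M) by ring,
      Nat.factorization_mul (by omega) (Nat.mul_pos (by omega) hM1).ne', Finsupp.add_apply,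
      Nat.factorization_eq_zero_of_not_dvd hnd, hn, hrprime.factorization_pow,
      Finsupp.single_eq_same, Nat.add_zero]
  have hScard : ∀ S : Sylow r G, Nat.card (S : Subgroup G) = q := fun S => by
    rw [S.card_eq_multiplicity, hfac, hn]
  have hSP : ∀ S : Sylow r G, ∀ x ∈ (S : Subgroup G), x ≠ 1 → P x := fun S x hx hx1 => by
    obtain ⟨m, hm⟩ := IsPGroup.iff_orderOf.mp S.2 ⟨x, hx⟩
    exact hP_of_r x hx1 ⟨m, by rwa [Subgroup.orderOf_mk] at hm⟩
  have hcent : ∀ g : G, P g → ∃ S : Sylow r G,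
      (S : Subgroup G) = Subgroup.centralizer ({g} : Set G) := fun g hg =>
    ⟨Sylow.ofCard _ (by rw [hfac, ← hn]; exact (hpair g hg).1), Sylow.coe_ofCard _ _⟩
  -- the good elements
  have hgood : ∀ d : G, d ≠ 1 → Odd (orderOf d) → ¬ P d → Good r d := by
    intro d hd1 hodd hnP
    by_cases hK : InK K d
    · obtain ⟨a, ha⟩ := hK
      refine hy.good_of_conj a ?_
      set x := a * d * a⁻¹
      have hx1 : x ≠ 1 := conj_ne' hd1
      have hxt : x ≠ t := fun e => by
        have h' : orderOf d = 2 := by rw [← orderOf_conj a d]; exact (congrArg orderOf e).trans hy.ht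
        rw [h'] at hodd
        exact absurd hodd (by decide)
      refine ⟨fun y hyd hyodd hy1 v hv => ?_, fun m hm => ?_, ?_⟩
      · have hyK := hy.cent_mem ha hx1 hxt hyd
        have hyt : y ≠ t := fun e => by rw [e, hy.ht] at hyodd; exact absurd hyodd (by decide)
        exact hy.comm _ (hy.cent_mem hyK hy1 hyt hv) _ ha
      · have hmK := hy.cent_mem ha hx1 hxt hm
        have hmt := hy.hTI m x ha hx1 hmK
        have hmm : m * m ∈ K := by
          by_cases h : m ∈ K
          · exact K.mul_mem h h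
          · rw [mul_self_two (hy.invol_of_not_mem hmt h)]; exact K.one_mem
        exact hy.comm _ hmm _ ha
      · intro h
        have hd : cc x ∣ k := Subgroup.card_dvd_of_le
          (H := Subgroup.centralizer ({x} : Set G)) (K := K)
          (fun v hv => hy.cent_mem ha hx1 hxt (Subgroup.mem_centralizer_singleton_iff.mp hv))
        exact hqk r hrprime hrq ((h.trans hd).trans (hMdef ▸ Dvd.intro_left 2 rfl))
    · have hn' : nn d ≠ 0 := fun h => hnP ((hP d).mpr ⟨hK, h⟩)
      obtain ⟨a, ha⟩ := hy.exists_sr hK hn'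
      refine hy.good_of_conj a ?_
      set z := a * d * a⁻¹
      refine ⟨fun y hyd hyodd hy1 v hv => ?_, fun m hm => ?_, ?_⟩
      · exact Subgroup.mem_centralizer_singleton_iff.mp
          (le_of_eq (hy.cent_eq ha hyd hy1) (Subgroup.mem_centralizer_singleton_iff.mpr hv))
      · obtain ⟨c, hcz, hct, hcn⟩ := hy.norm_decomp ha hm
        rcases (hsize z ha).2 _ (hy.norm_mem_K ha hct hcn) hcn with e | e
        · rw [eq_inv_of_mul_eq_one_right e]
          exact (Commute.mul_left (Commute.inv_left (a := c) hcz) (Commute.inv_left (a := c) hcz)).eq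
        · have hm' : m = c⁻¹ * t := by rw [← e, inv_mul_cancel_left]
          have htc := hy.t_inv ha (show c⁻¹ * z = z * c⁻¹ from (Commute.inv_left (a := c) hcz).eq)
          rw [inv_inv] at htc
          have hmm : m * m = 1 := by
            rw [hm']
            calc c⁻¹ * t * (c⁻¹ * t) = c⁻¹ * (t * c⁻¹ * t⁻¹) * (t * t) := by group
              _ = 1 := by rw [htc, mul_self_two hy.ht]; group
          rw [hmm, one_mul, mul_one]
      · rw [(hsize z ha).1, hMk]
        exact hqM r hrprime hrq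
  -- normalizers of nontrivial `r`-subgroups
  have hodd : ∀ W : Subgroup G, IsPGroup r W → W ≠ ⊥ →
      Odd (Nat.card (Subgroup.normalizer (W : Set G))) := by
    intro W hW hne
    rw [Nat.odd_iff, ← Nat.two_dvd_ne_zero]
    intro h
    haveI : Fact (Nat.Prime 2) := ⟨Nat.prime_two⟩
    obtain ⟨u, hu⟩ := exists_prime_orderOf_dvd_card' (G := Subgroup.normalizer (W : Set G)) 2 h
    have hu2 : orderOf (u : G) = 2 := by rw [Subgroup.orderOf_coe]; exact hu
    obtain ⟨⟨w, hw⟩, hw1⟩ := Subgroup.ne_bot_iff_exists_ne_one.mp hne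
    have hw1' : w ≠ 1 := fun e => hw1 (Subtype.ext e)
    have hP' : ∀ x ∈ W, x ≠ 1 → P x := fun x hx hx1 => by
      obtain ⟨m, hm⟩ := IsPGroup.iff_orderOf.mp hW ⟨x, hx⟩
      exact hP_of_r x hx1 ⟨m, by rwa [Subgroup.orderOf_mk] at hm⟩
    have huw : (u : G) * w * (u : G)⁻¹ ∈ W := (Subgroup.mem_normalizer_iff.mp u.2 w).mp hw
    set w₀ := w⁻¹ * ((u : G) * w * (u : G)⁻¹) with hw₀
    have hmem : w₀ ∈ W := W.mul_mem (W.inv_mem hw) huw
    by_cases h0 : w₀ = 1
    · rw [hw₀, inv_mul_eq_one] at h0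
      exact ((hP w).mp (hP' w hw hw1')).1 (hy.inK_comm_invol hu2
        (mul_inv_eq_iff_eq_mul.mp h0.symm).symm)
    · obtain ⟨h1, h2⟩ := (hP w₀).mp (hP' w₀ hmem h0)
      refine hy.nn_of_weak h1 (h := (u : G)) ?_ h2
      have hui : (u : G)⁻¹ = (u : G) := inv_two hu2
      calc (u : G) * w₀ * (u : G)⁻¹
          = ((u : G) * w⁻¹ * (u : G)⁻¹) * (((u : G) * (u : G)) * w * ((u : G) * (u : G))⁻¹) := by
            rw [hw₀]; group
        _ = _ := by rw [mul_self_two hu2, hw₀]; group
  have hfrob : ∀ N : Subgroup G, Odd (Nat.card N) → r ∣ Nat.card N → ∀ d ∈ N, ∀ p : ℕ, p.Prime →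
      orderOf d = p → p ≠ r → Good r d ∧ ∃ R : Subgroup G, R ≤ N ∧ IsPGroup r R ∧
        Nat.card R * Nat.card ↥(Subgroup.centralizer ({d} : Set G) ⊓ N) = Nat.card N ∧
        ∀ x ∈ N, (∃ m : ℕ, orderOf x = r ^ m) → x ∈ R := by
    intro N hNodd hrN d hd p hp hdp hpr
    have hoddN : ∀ x ∈ N, Odd (orderOf x) := fun x hx =>
      hNodd.of_dvd_nat (by rw [← Subgroup.orderOf_mk x hx]; exact orderOf_dvd_natCard _)
    have hd1 : d ≠ 1 := fun e => hp.ne_one (by rw [← hdp, e, orderOf_one])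
    have hg := hgood d hd1 (hoddN d hd) (fun h => hpr (hdp ▸ horder d h))
    refine ⟨hg, ?_⟩
    set d' : N := ⟨d, hd⟩
    set T := Subgroup.centralizer ({d'} : Set N) with hTdef
    have hTeq : T.map N.subtype = Subgroup.centralizer ({d} : Set G) ⊓ N := by
      ext x
      simp only [Subgroup.mem_map, Subgroup.mem_inf, hTdef, Subgroup.mem_centralizer_singleton_iff]
      constructor
      · rintro ⟨v, hv, rfl⟩; exact ⟨congrArg Subtype.val hv, v.2⟩
      · rintro ⟨h1, h2⟩; exact ⟨⟨x, h2⟩, Subtype.ext h1, rfl⟩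
    have hTcard : Nat.card T = Nat.card ↥(Subgroup.centralizer ({d} : Set G) ⊓ N) := by
      rw [← hTeq, Subgroup.card_map_of_injective N.subtype_injective]
    obtain ⟨R, hR, hcard, hmem⟩ := frob_lemma r hp (d := d') (by rw [Subgroup.orderOf_mk, hdp]) T hTdef
      (fun h => hg.2.2 (h.trans (hTcard ▸ Subgroup.card_dvd_of_le inf_le_left))) hrN
      (by
        intro m y hyT hy1 hm
        have hyT' := Subgroup.mem_centralizer_singleton_iff.mp hyT
        have hm' := Subgroup.mem_centralizer_singleton_iff.mp hm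
        have hy1' : (y : G) ≠ 1 := fun e => hy1 (Subtype.ext e)
        have hyd : (y : G) * d = d * (y : G) := congrArg Subtype.val hyT'
        have hmy : (m : G) * y * (m : G)⁻¹ * d = d * ((m : G) * y * (m : G)⁻¹) :=
          congrArg Subtype.val hm'
        have hmd : ((m : G) * d * (m : G)⁻¹) * d = d * ((m : G) * d * (m : G)⁻¹) := by
          refine hg.1 _ hmy (by rw [orderOf_conj]; exact hoddN _ y.2) (conj_ne' hy1') _ ?_
          calc (m : G) * d * (m : G)⁻¹ * ((m : G) * y * (m : G)⁻¹)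
              = (m : G) * (d * (y : G)) * (m : G)⁻¹ := by group
            _ = (m : G) * ((y : G) * d) * (m : G)⁻¹ := by rw [hyd]
            _ = _ := by group
        have h2 : Commute ((m : G) * m) d := hg.2.1 _ hmd
        obtain ⟨i, hi⟩ := hoddN _ m.2
        have hmm : ((m : G) * m) ^ (i + 1) = m := by
          rw [← pow_two, ← pow_mul, show 2 * (i + 1) = (2 * i + 1) + 1 by ring, pow_succ, ← hi,
            pow_orderOf_eq_one, one_mul]
        refine Subgroup.mem_centralizer_singleton_iff.mpr (Subtype.ext ?_)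
        show (m : G) * d = d * (m : G)
        rw [← hmm]
        exact (h2.pow_left (i + 1)).eq)
      (by
        intro x y hx hxy
        by_cases hy1 : y = 1
        · exact ⟨0, by simp [hy1]⟩
        have hx' : orderOf (x : G) = r := by rw [Subgroup.orderOf_coe, hx]
        have hPx : P x := hP_of_r _ (fun e => hrprime.ne_one (by rw [← hx', e, orderOf_one]))
          ⟨1, by rw [hx', pow_one]⟩
        have hPy := hPcomm x y hPx (fun e => hy1 (Subtype.ext e)) (congrArg Subtype.val hxy).symm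
        exact ⟨1, by rw [← Subgroup.orderOf_coe, horder y hPy, pow_one]⟩)
    refine ⟨R.map N.subtype, Subgroup.map_subtype_le R, hR.map N.subtype, ?_, fun x hx hxr => ?_⟩
    · rw [Subgroup.card_map_of_injective N.subtype_injective, ← hTcard, hcard]
    · exact ⟨⟨x, hx⟩, hmem _ (by obtain ⟨m, hm⟩ := hxr; exact ⟨m, by rw [Subgroup.orderOf_mk, hm]⟩), rfl⟩
  -- trivial intersections
  have hTI : ∀ S S' : Sylow r G, S ≠ S' → (S : Subgroup G) ⊓ S' = ⊥ := by
    by_contra hcon
    push Not at hcon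
    obtain ⟨S₁, S₂, hne₁, hW₁⟩ := hcon
    obtain ⟨⟨S, S'⟩, hmem, hmax⟩ := Finset.exists_max_image
      ((Finset.univ : Finset (Sylow r G × Sylow r G)).filter fun p => p.1 ≠ p.2)
      (fun p => Nat.card ↥((p.1 : Subgroup G) ⊓ p.2)) ⟨(S₁, S₂), by simp [hne₁]⟩
    have hne : S ≠ S' := (Finset.mem_filter.mp hmem).2
    set W := (S : Subgroup G) ⊓ S' with hWdef
    have hW1 : W ≠ ⊥ := by
      intro e
      have h := hmax (S₁, S₂) (by simp [hne₁])
      simp only [← hWdef, e, Subgroup.card_bot] at h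
      exact hW₁ (Subgroup.card_eq_one.mp (le_antisymm h Nat.card_pos))
    have hWr : IsPGroup r W := S.2.to_le inf_le_left
    set N := Subgroup.normalizer (W : Set G) with hN
    have hrN : r ∣ Nat.card N :=
      by
        obtain ⟨m, hm⟩ := IsPGroup.iff_card.mp hWr
        have h1 : 1 < Nat.card W := (Subgroup.one_lt_card_iff_ne_bot _).mpr hW1
        have hm0 : m ≠ 0 := fun e => by rw [e, pow_zero] at hm; omega
        exact ((dvd_pow_self r hm0).trans (dvd_of_eq hm.symm)).trans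
          (Subgroup.card_dvd_of_le Subgroup.le_normalizer)
    obtain ⟨R, hR, hRmem⟩ : ∃ R : Subgroup G, IsPGroup r R ∧
        ∀ x ∈ N, (∃ m : ℕ, orderOf x = r ^ m) → x ∈ R := by
      by_cases h : ∀ p : ℕ, p.Prime → p ∣ Nat.card N → p = r
      · exact ⟨N, IsPGroup.of_card (Nat.eq_prime_pow_of_unique_prime_dvd Nat.card_pos.ne'
          (fun {p} hp hd => h p hp hd)), fun x hx _ => hx⟩
      · push Not at h
        obtain ⟨p, hp, hpd, hpr⟩ := h
        haveI : Fact p.Prime := ⟨hp⟩
        obtain ⟨d, hd⟩ := exists_prime_orderOf_dvd_card' (G := N) p hpd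
        obtain ⟨-, R, -, hR, -, hmemR⟩ := hfrob N (hodd W hWr hW1) hrN d d.2 p hp
          (by rw [Subgroup.orderOf_coe, hd]) hpr
        exact ⟨R, hR, hmemR⟩
    obtain ⟨S'', hS''⟩ := hR.exists_le_sylow
    have key : ∀ A B : Sylow r G, A ≠ B → (A : Subgroup G) ⊓ B = W → S'' = A := by
      intro A B hAB hABW
      by_contra hne''
      have hlt : W.subgroupOf A < ⊤ := by
        refine lt_top_iff_ne_top.mpr fun e => hAB ?_
        have hle : (A : Subgroup G) ≤ B := fun x hx => by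
          have : (⟨x, hx⟩ : (A : Subgroup G)) ∈ W.subgroupOf A := e ▸ Subgroup.mem_top _
          exact (hABW ▸ Subgroup.mem_subgroupOf.mp this : x ∈ (A : Subgroup G) ⊓ B).2
        exact Sylow.ext (Subgroup.eq_of_le_of_card_ge hle (by rw [hScard, hScard]))
      haveI : Group.IsNilpotent (A : Subgroup G) := A.2.isNilpotent
      obtain ⟨x, hx1, hx2⟩ := SetLike.exists_of_lt
        (Group.normalizerCondition_of_isNilpotent (W.subgroupOf A) hlt)
      have hxN : (x : G) ∈ N := by
        have hkey := Subgroup.mem_normalizer_iff.mp hx1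
        have hWA : W ≤ (A : Subgroup G) := hABW ▸ inf_le_left
        rw [hN, Subgroup.mem_normalizer_iff]
        intro y
        constructor
        · intro hyW
          exact Subgroup.mem_subgroupOf.mp ((hkey ⟨y, hWA hyW⟩).mp (Subgroup.mem_subgroupOf.mpr hyW))
        · intro hyW
          have hyA : y ∈ (A : Subgroup G) := by
            have h := (A : Subgroup G).mul_mem
              ((A : Subgroup G).mul_mem ((A : Subgroup G).inv_mem x.2) (hWA hyW)) x.2
            rwa [show (x : G)⁻¹ * ((x : G) * y * (x : G)⁻¹) * (x : G) = y by group] at h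
          exact Subgroup.mem_subgroupOf.mp ((hkey ⟨y, hyA⟩).mpr (Subgroup.mem_subgroupOf.mpr hyW))
      have hxS : (x : G) ∈ (S'' : Subgroup G) := hS'' (hRmem x hxN (by
        obtain ⟨m, hm⟩ := IsPGroup.iff_orderOf.mp A.2 x
        exact ⟨m, by rw [Subgroup.orderOf_coe, hm]⟩))
      have hWS : W ≤ (S'' : Subgroup G) := fun y hy' => hS'' (hRmem y (Subgroup.le_normalizer hy') (by
        obtain ⟨m, hm⟩ := IsPGroup.iff_orderOf.mp hWr ⟨y, hy'⟩
        exact ⟨m, by rwa [Subgroup.orderOf_mk] at hm⟩))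
      have hgt : W < (A : Subgroup G) ⊓ S'' := by
        refine lt_of_le_of_ne (le_inf (hABW ▸ inf_le_left) hWS) fun e => hx2 ?_
        rw [Subgroup.mem_subgroupOf, e]
        exact ⟨x.2, hxS⟩
      have h := hmax (A, S'') (by simp [Ne.symm hne''])
      simp only [← hWdef] at h
      have : Nat.card W < Nat.card ↥((A : Subgroup G) ⊓ S'') := by
        by_contra hh
        exact hgt.ne (Subgroup.eq_of_le_of_card_ge hgt.le (not_lt.mp hh))
      omega
    exact hne ((key S S' hne rfl).symm.trans (key S' S (Ne.symm hne) (inf_comm _ _)))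
  have hcx : ∀ S : Sylow r G, ∀ x ∈ (S : Subgroup G), x ≠ 1 →
      Subgroup.centralizer ({x} : Set G) = S := by
    intro S x hx hx1
    obtain ⟨S', hS'⟩ := hcent x (hSP S x hx hx1)
    by_cases h : S = S'
    · rw [h, hS']
    · exfalso
      refine hx1 (Subgroup.mem_bot.mp (hTI S S' h ▸ ⟨hx, ?_⟩))
      rw [hS']
      exact Subgroup.mem_centralizer_singleton_iff.mpr rfl
  -- the number of Sylow subgroups
  have hnr : Nat.card (Sylow r G) = 2 * (M + 1) := by
    let f : (Σ S : Sylow r G, {x : (S : Subgroup G) // (x : G) ≠ 1}) → {x : G // P x} := fun z =>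
      ⟨(z.2.1 : G), hSP z.1 _ z.2.1.2 z.2.2⟩
    have hf : Function.Bijective f := by
      constructor
      · rintro ⟨S, x, hx⟩ ⟨S', x', hx'⟩ h
        have h' : (x : G) = x' := congrArg Subtype.val h
        have hSS : S = S' := by
          by_contra hne
          exact hx (Subgroup.mem_bot.mp (hTI S S' hne ▸ ⟨x.2, h' ▸ x'.2⟩))
        subst hSS
        obtain rfl := Subtype.ext h'
        rfl
      · rintro ⟨x, hx⟩
        obtain ⟨S, hS⟩ := hcent x hx
        exact ⟨⟨S, ⟨x, hS ▸ Subgroup.mem_centralizer_singleton_iff.mpr rfl⟩,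
          fun e => ((hP x).mp hx).1 (by rw [show x = 1 from e]; exact inK_one K)⟩, rfl⟩
    have h := Nat.card_congr (Equiv.ofBijective f hf)
    haveI := Fintype.ofFinite (Sylow r G)
    rw [Nat.card_sigma] at h
    have hone : ∀ S : Sylow r G, Nat.card {x : (S : Subgroup G) // (x : G) ≠ 1} = q - 1 := fun S => by
      haveI := Fintype.ofFinite (S : Subgroup G)
      rw [Nat.card_congr (Equiv.subtypeEquivRight fun x : (S : Subgroup G) =>
        (⟨fun h e => h (congrArg Subtype.val e), fun h e => h (Subtype.ext e)⟩ : ¬ ((x : G) = 1) ↔ ¬ (x = 1)))]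
      rw [← hScard S]
      simp [Nat.card_eq_fintype_card, Fintype.card_subtype_compl]
    simp only [hone, Finset.sum_const, Finset.card_univ, smul_eq_mul, hPcard] at h
    rw [← Nat.card_eq_fintype_card, show q - 1 = 2 * M by omega] at h
    refine Nat.eq_of_mul_eq_mul_right (show 0 < 2 * M by omega) ?_
    rw [h]; ring
  obtain ⟨S⟩ := (inferInstance : Nonempty (Sylow r G))
  have hNS : Nat.card (Subgroup.normalizer ((S : Subgroup G) : Set G)) = q * M := by
    have h1 := (Subgroup.normalizer ((S : Subgroup G) : Set G)).index_mul_card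
    rw [show (Subgroup.normalizer ((S : Subgroup G) : Set G)).index = Nat.card (Sylow r G) from
        (Sylow.card_eq_index_normalizer S).symm, hnr, hG'] at h1
    refine Nat.eq_of_mul_eq_mul_left (show 0 < 2 * (M + 1) by omega) ?_
    rw [h1]; ring
  have hcardG : 2 * Nat.card G = q * (q + 1) * (q - 1) := by
    rw [hG', show q - 1 = 2 * M by omega, hqdef]; ring
  by_cases hM2 : M = 1
  · -- the group of order twelve
    refine ⟨S, ⊥, by rw [hScard]; exact hcardG, fun x hx hx1 => hcx S x hx hx1,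
      ⟨⟨fun a b => Subsingleton.elim _ _⟩⟩, by rw [hScard, Subgroup.card_bot]; omega, inf_bot_eq _,
      ?_, fun X hX hne => absurd (le_bot_iff.mp hX) hne⟩
    rw [sup_bot_eq]
    exact (Subgroup.eq_of_le_of_card_ge Subgroup.le_normalizer
      (by rw [hNS, hScard, hM2, mul_one])).symm
  have hM3 : 3 ≤ M := by omega
  obtain ⟨p, hp, hpM⟩ := Nat.exists_prime_and_dvd hM2
  haveI : Fact p.Prime := ⟨hp⟩
  set N := Subgroup.normalizer ((S : Subgroup G) : Set G) with hN
  have hS1 : (S : Subgroup G) ≠ ⊥ := fun e => by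
    have := hScard S; rw [e, Subgroup.card_bot] at this; omega
  obtain ⟨d, hd⟩ := exists_prime_orderOf_dvd_card' (G := N) p (hNS ▸ hpM.mul_left q)
  have hpr : p ≠ r := fun e => hqM r hrprime hrq (e ▸ hpM)
  have hdo : orderOf (d : G) = p := by rw [Subgroup.orderOf_coe, hd]
  obtain ⟨-, R, hRN, hR, hRcard, hmemR⟩ := hfrob N (hodd S S.2 hS1) (hNS ▸ hrq.mul_right M) d d.2 p
    hp hdo hpr
  have hRS : (S : Subgroup G) ≤ R := fun x hx => hmemR x (Subgroup.le_normalizer hx) (by
    obtain ⟨m, hm⟩ := IsPGroup.iff_orderOf.mp S.2 ⟨x, hx⟩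
    exact ⟨m, by rwa [Subgroup.orderOf_mk] at hm⟩)
  have hRq : Nat.card R = q := by rw [← hScard S, S.3 hR hRS]
  rw [hRq, hNS] at hRcard
  have hTM := Nat.eq_of_mul_eq_mul_left (show 0 < q by omega) hRcard
  have hd1 : (d : G) ≠ 1 := fun e => hp.ne_one (by rw [← hdo, e, orderOf_one])
  have hdK : ¬ InK K (d : G) := fun h => by
    have h1 := hK_order _ h
    rw [hdo] at h1
    rcases hp.dvd_mul.mp h1 with h2 | h2
    · have hp2 := (Nat.prime_dvd_prime_iff_eq hp Nat.prime_two).mp h2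
      have hodd' := (hodd S S.2 hS1).of_dvd_nat (hd ▸ orderOf_dvd_natCard d)
      rw [hp2] at hodd'
      exact absurd hodd' (by decide)
    · exact hMk' p hp hpM h2
  have hdn : nn (d : G) ≠ 0 := fun h => hqM p hp (hprime d p hp hdo ((hP _).mpr ⟨hdK, h⟩)) hpM
  obtain ⟨a, ha⟩ := hy.exists_sr hdK hdn
  set z := a * (d : G) * a⁻¹ with hz
  have hCd : Nat.card (Subgroup.centralizer ({(d : G)} : Set G)) = M :=
    (cc_conj a (d : G)).symm.trans ((hsize z ha).1.trans hMk)
  have hCN : Subgroup.centralizer ({(d : G)} : Set G) ≤ N := by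
    have := Subgroup.eq_of_le_of_card_ge (inf_le_left : Subgroup.centralizer ({(d : G)} : Set G) ⊓ N ≤ _)
      (by rw [hTM, hCd])
    exact this ▸ inf_le_right
  set D := Subgroup.centralizer ({z} : Set G) with hD
  have hDcard : Nat.card D = M := (hsize z ha).1.trans hMk
  set Q : Sylow r G := a • S with hQdef
  have hconjQ : ∀ x, a * x * a⁻¹ ∈ (Q : Subgroup G) ↔ x ∈ (S : Subgroup G) := fun x => by
    rw [hQdef, Sylow.coe_subgroup_smul]
    exact ⟨fun ⟨y, hy', e⟩ => by
        obtain rfl : y = x := (MulAut.conj a).injective e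
        exact hy', fun h => ⟨x, h, rfl⟩⟩
  have hDN : D ≤ Subgroup.normalizer ((Q : Subgroup G) : Set G) := by
    intro x hx
    have hx' : a⁻¹ * x * a ∈ N := hCN (Subgroup.mem_centralizer_singleton_iff.mpr (by
      have h := Subgroup.mem_centralizer_singleton_iff.mp hx
      calc a⁻¹ * x * a * d = a⁻¹ * (x * z) * a := by rw [hz]; group
        _ = a⁻¹ * (z * x) * a := by rw [h]
        _ = d * (a⁻¹ * x * a) := by rw [hz]; group))
    rw [Subgroup.mem_normalizer_iff]
    intro y
    rw [show y = a * (a⁻¹ * y * a) * a⁻¹ by group, hconjQ,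
      show x * (a * (a⁻¹ * y * a) * a⁻¹) * x⁻¹ =
        a * ((a⁻¹ * x * a) * (a⁻¹ * y * a) * (a⁻¹ * x * a)⁻¹) * a⁻¹ by group, hconjQ]
    exact Subgroup.mem_normalizer_iff.mp hx' _
  have hcop : Nat.Coprime q M := Nat.coprime_of_dvd fun p hp h1 h2 => hqM p hp h1 h2
  have hQD : Subgroup.normalizer ((Q : Subgroup G) : Set G) = (Q : Subgroup G) ⊔ D := by
    refine (Subgroup.eq_of_le_of_card_ge (sup_le Subgroup.le_normalizer hDN) ?_).symm
    have h1 : q ∣ Nat.card ↥((Q : Subgroup G) ⊔ D) := hScard Q ▸ Subgroup.card_dvd_of_le le_sup_left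
    have h2 : M ∣ Nat.card ↥((Q : Subgroup G) ⊔ D) := hDcard ▸ Subgroup.card_dvd_of_le le_sup_right
    have hNQ : Nat.card (Subgroup.normalizer ((Q : Subgroup G) : Set G)) = q * M := by
      have h1 := (Subgroup.normalizer ((Q : Subgroup G) : Set G)).index_mul_card
      rw [show (Subgroup.normalizer ((Q : Subgroup G) : Set G)).index = Nat.card (Sylow r G) from
        (Sylow.card_eq_index_normalizer Q).symm, hnr, hG'] at h1
      refine Nat.eq_of_mul_eq_mul_left (show 0 < 2 * (M + 1) by omega) ?_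
      rw [h1]; ring
    rw [hNQ]
    exact Nat.le_of_dvd Nat.card_pos (hcop.mul_dvd_of_dvd_of_dvd h1 h2)
  have hinfQD : (Q : Subgroup G) ⊓ D = ⊥ := Subgroup.card_eq_one.mp (Nat.dvd_one.mp (by
    have h1 := Subgroup.card_dvd_of_le (inf_le_left : (Q : Subgroup G) ⊓ D ≤ _)
    have h2 := Subgroup.card_dvd_of_le (inf_le_right : (Q : Subgroup G) ⊓ D ≤ _)
    rw [hScard] at h1
    rw [hDcard] at h2
    exact hcop ▸ Nat.dvd_gcd h1 h2))
  have htD : t ∉ D := fun h => hy.tne (hy.fpf ha (Subgroup.mem_centralizer_singleton_iff.mp h) rfl)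
  have hnorm : ∀ X : Subgroup G, X ≤ D → X ≠ ⊥ →
      Subgroup.normalizer (X : Set G) = D ⊔ Subgroup.zpowers t := by
    intro X hX hne
    refine le_antisymm (fun m hm => ?_) (sup_le (fun x hx => ?_) (Subgroup.zpowers_le.mpr ?_))
    · obtain ⟨⟨x, hx⟩, hx1⟩ := Subgroup.ne_bot_iff_exists_ne_one.mp hne
      have hx1' : x ≠ 1 := fun e => hx1 (Subtype.ext e)
      have hxz := Subgroup.mem_centralizer_singleton_iff.mp (hX hx)
      have hmx := Subgroup.mem_centralizer_singleton_iff.mp (hX ((Subgroup.mem_normalizer_iff.mp hm x).mp hx))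
      have hmz : (m * z * m⁻¹) * z = z * (m * z * m⁻¹) := by
        refine Subgroup.mem_centralizer_singleton_iff.mp (le_of_eq (hy.cent_eq ha hmx (conj_ne' hx1'))
          (Subgroup.mem_centralizer_singleton_iff.mpr ?_))
        calc m * z * m⁻¹ * (m * x * m⁻¹) = m * (z * x) * m⁻¹ := by group
          _ = m * (x * z) * m⁻¹ := by rw [hxz]
          _ = _ := by group
      obtain ⟨c, hcz, hct, hcn⟩ := hy.norm_decomp ha hmz
      rw [show m = c⁻¹ * (c * m) by group]
      refine Subgroup.mul_mem _ (Subgroup.mem_sup_left (Subgroup.inv_mem _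
        (Subgroup.mem_centralizer_singleton_iff.mpr hcz))) ?_
      rcases (hsize z ha).2 _ (hy.norm_mem_K ha hct hcn) hcn with e | e <;> rw [e]
      · exact Subgroup.one_mem _
      · exact Subgroup.mem_sup_right (Subgroup.mem_zpowers t)
    · have hxz := Subgroup.mem_centralizer_singleton_iff.mp hx
      rw [Subgroup.mem_normalizer_iff]
      intro y
      constructor
      · intro hyX
        rw [hy.comm_cent ha hxz (Subgroup.mem_centralizer_singleton_iff.mp (hX hyX)),
          mul_inv_cancel_right]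
        exact hyX
      · intro hyX
        have hyz := Subgroup.mem_centralizer_singleton_iff.mp (D.mul_mem (D.mul_mem (D.inv_mem hx) (hX hyX)) hx)
        rw [show x⁻¹ * (x * y * x⁻¹) * x = y by group] at hyz
        rwa [hy.comm_cent ha hxz hyz, mul_inv_cancel_right] at hyX
    · have key : ∀ y ∈ X, t * y * t⁻¹ ∈ X := fun y hyX => by
        rw [hy.t_inv ha (Subgroup.mem_centralizer_singleton_iff.mp (hX hyX))]
        exact X.inv_mem hyX
      rw [Subgroup.mem_normalizer_iff]
      intro y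
      refine ⟨key y, fun h => ?_⟩
      have h2 := key _ h
      rw [inv_two hy.ht] at h2
      rwa [show t * (t * y * t) * t = (t * t) * y * (t * t) by group, mul_self_two hy.ht,
        one_mul, mul_one] at h2
  have hDne : D ≠ ⊥ := fun e => by rw [e, Subgroup.card_bot] at hDcard; omega
  refine ⟨Q, D, by rw [hScard]; exact hcardG, fun x hx hx1 => hcx Q x hx hx1, hy.isComm_cent ha,
    by rw [hDcard, hScard]; omega, hinfQD, hQD, fun X hX hne => ?_⟩
  exact ⟨(hnorm X hX hne).trans (hnorm D le_rfl hDne).symm, t, hy.ht, htD,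
    fun y hy' => hy.t_inv ha (Subgroup.mem_centralizer_singleton_iff.mp hy'), hnorm D le_rfl hDne⟩

end Hyp

end Cfsg.Agent.BSW
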